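import Cfsg.Agent.Omega.OM.Lev.Low.YKInst

/-!
# LIN (helper388 #25947, #26301): the lines of a block over `B₀` are centralised by `Q`

`M : NatC F T H V D k`, `NB' M B X K c` : the blocks `K i` over `B` with the lines `c i ≤ X`, `|F| > 2`. `Q ≤ T` is normal in
`T`, `VP = C_X(Q)`, `N_H(T) ≤ N(Q)`, and every minimal parabolic `R ≤ H` over `T` which normalises `B` normalises `Q` or
centralises an element `z ∈ VP ∩ V` all of whose components are nontrivial. Then `Q` centralises the lines.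

* `AA M` : the elements acting on `V / D` as elements of `SL₂(F)^k`, and trivially on `D`; `oddGen H ≤ AA M`;
* `cent_lines` : such an element which normalises `X` and centralises `z` centralises `X ∩ V`;
* `norm_F` : `N_H(B)` normalises `VP ∩ V`;
* **`cent_c`**.
-/

set_option autoImplicit false
set_option linter.unusedSectionVars false

namespace Cfsg.Agent.Omega.OM.LowT.LinCore

open Subgroup Cfsg Cfsg.Agent.ZN Cfsg.Agent.ZN.ChoiceBase Cfsg.Agent.ZN.ChoiceSit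
open Cfsg.Agent.Omega.NatPair (ap ap_zero' ap_one' ap_one ap_mul ext2 ap_inv_ap ap_inj)
open Cfsg.Agent.Lib.SL2Mat
open Cfsg.Agent.MinSimple.MinParabolic (IsMinPar)
open Cfsg.Agent.MinSimple.VModule (oddGen oddGen_le oddGen_le_of_sup)
open Cfsg.Agent.Omega.SQ1.FFOne (MinH)
open Cfsg.Agent.Omega.NO3S.OneLine (NatC)
open Cfsg.Agent.Omega.NO3S.OneLine.NatC (acts_mul acts_inv acts_one acts_unique)
open Cfsg.Agent.Omega.OM.Lev.Nat (Wn mem_Wn)
open Cfsg.Agent.Omega.OM.GNat (cent_N)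
open Cfsg.Agent.Omega.OM.Lev.Low

universe u

variable {G : Type u} [Group G] [Finite G] {F : Type} [Field F] {T H V D : Subgroup G} {k : ℕ}

/-- the elements acting on `V / D` as elements of `SL₂(F)^k`, and trivially on `D` -/
def AA (M : NatC F T H V D k) : Subgroup G where
  carrier := {x | x ∈ H ∧ (∃ A, M.Acts x A) ∧ ∀ d ∈ D, x * d = d * x}
  mul_mem' := by
    rintro a b ⟨ha, ⟨A, hA⟩, ha2⟩ ⟨hb, ⟨B, hB⟩, hb2⟩
    refine ⟨mul_mem ha hb, ⟨A * B, acts_mul hb hA hB⟩, fun d hd => ?_⟩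
    have e1 : Commute a d := ha2 d hd
    have e2 : Commute b d := hb2 d hd
    exact (e1.mul_left e2).eq
  one_mem' := ⟨one_mem H, ⟨1, acts_one⟩, fun d _ => by simp⟩
  inv_mem' := by
    rintro a ⟨ha, ⟨A, hA⟩, ha2⟩
    refine ⟨inv_mem ha, ⟨A⁻¹, acts_inv ha hA⟩, fun d hd => ?_⟩
    have e1 : Commute a d := ha2 d hd
    exact e1.inv_left.eq

variable {M : NatC F T H V D k}

theorem mem_AA {x : G} : x ∈ AA M ↔ x ∈ H ∧ (∃ A, M.Acts x A) ∧ ∀ d ∈ D, x * d = d * x := Iff.rfl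

theorem norm_AA : H ≤ normalizer (AA M : Set G) := by
  have key : ∀ g ∈ H, ∀ x ∈ AA M, g * x * g⁻¹ ∈ AA M := by
    rintro g hg x ⟨hx, ⟨A, hA⟩, hx2⟩
    obtain ⟨B, hB⟩ := M.nat.norm g hg x hx A hA
    refine ⟨mul_mem (mul_mem hg hx) (inv_mem hg), ⟨B, hB⟩, fun d hd => ?_⟩
    have hd' : g⁻¹ * d * g ∈ D := by
      have := M.Dn g⁻¹ (inv_mem hg) d hd
      rwa [inv_inv] at this
    have h1 := hx2 _ hd'
    calc g * x * g⁻¹ * d = g * (x * (g⁻¹ * d * g)) * g⁻¹ := by group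
      _ = g * (g⁻¹ * d * g * x) * g⁻¹ := by rw [h1]
      _ = d * (g * x * g⁻¹) := by group
  intro g hg
  rw [mem_normalizer_iff]
  refine fun x => ⟨key g hg x, fun hx => ?_⟩
  have := key g⁻¹ (inv_mem hg) _ hx
  have e : g⁻¹ * (g * x * g⁻¹) * g⁻¹⁻¹ = x := by group
  rwa [e] at this

/-- **The elements of odd order act as elements of `SL₂(F)^k`.** -/
theorem oddGen_le_AA (hT : Syl T H) : oddGen H ≤ AA M :=
  oddGen_le_of_sup norm_AA
    (M.nat.gen _ le_sup_right fun _ hh A hA => mem_sup_left ⟨hh, ⟨A, hA.1⟩, hA.2⟩) hT.1 (fun _ hx => hx.1) hT.2.1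

/-- the elements of `V` on the lines are products of elements of the lines -/
theorem mem_iSup_Li {v : G} (hv : v ∈ V) (h0 : ∀ i, M.nat.e v i 1 = 0) : v ∈ ⨆ i, Li M i := by
  classical
  have key : ∀ s : Finset (Fin k), ∀ v ∈ V, (∀ i, M.nat.e v i 1 = 0) → (∀ i ∉ s, M.nat.e v i = 0) →
      v ∈ ⨆ i, Li M i := by
    intro s
    induction s using Finset.induction_on with
    | empty =>
      intro v hv _ h1
      have h2 : v ∈ D := (M.nat.ker v hv).1 (funext fun i => h1 i (Finset.notMem_empty i))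
      exact le_iSup (fun i => Li M i) ⟨0, M.pos⟩ (D_le_Li ⟨0, M.pos⟩ h2)
    | insert i s hi ih =>
      intro v hv h0 h1
      obtain ⟨w, hw, e⟩ := exists_line M i (M.nat.e v i 0)
      have hvw : v * w⁻¹ ∈ V := mul_mem hv (inv_mem hw.1)
      have h2 := ih (v * w⁻¹) hvw (fun j => ?_) fun j hj => ?_
      · have h3 := mul_mem h2 (le_iSup (fun i => Li M i) i hw)
        rwa [inv_mul_cancel_right] at h3
      · rw [M.map_div hv hw.1, Pi.sub_apply, Pi.sub_apply, h0 j]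
        by_cases hji : j = i
        · subst hji
          rw [hw.2.2, sub_zero]
        · rw [hw.2.1 j hji, Pi.zero_apply, sub_zero]
      · rw [M.map_div hv hw.1, Pi.sub_apply]
        by_cases hji : j = i
        · subst hji
          rw [sub_eq_zero]
          exact ext2 e.symm (by rw [h0, hw.2.2])
        · rw [h1 j (fun h => (Finset.mem_insert.1 h).elim hji hj), hw.2.1 j hji, sub_zero]
  exact key Finset.univ v hv h0 fun i hi => absurd (Finset.mem_univ i) hi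

variable {B X : Subgroup G} {K c : Fin k → Subgroup G}

/-- **An element of `AA M` which normalises `X` and centralises `z` centralises `X ∩ V`.** -/
theorem cent_lines [CharP F 2] (hnb : NB' M B X K c) {z : G} (hzV : z ∈ V) (hzX : z ∈ X)
    (hzi : ∀ i, M.nat.e z i ≠ 0) {x : G} (hx : x ∈ AA M) (hxX : x ∈ normalizer (X : Set G)) (hxz : x * z = z * x)
    {v : G} (hv : v ∈ V) (hvX : v ∈ X) : x * v = v * x := by
  obtain ⟨hxH, ⟨A, hA⟩, hxD⟩ := hx
  have hk := M.pos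
  have key : ∀ i, ∀ w ∈ Li M i, x * w = w * x := by
    intro i w hw
    have hL := hnb.ld i
    have h10 : ent (A i) 1 0 = 0 := by
      obtain ⟨y, hy, e⟩ := exists_line M i 1
      have h1 : x * y * x⁻¹ ∈ X := (mem_normalizer_iff.1 hxX y).1 (hL.LiZ i hy)
      have h2 := (hL.mem _ (M.Vn x hxH y hy.1)).1 h1 i
      rw [hA y hy.1 i, ap_one', e, hy.2.2] at h2
      simpa using h2
    have hz1 : M.nat.e z i 1 = 0 := (hL.mem z hzV).1 hzX i
    have hz0 : M.nat.e z i 0 ≠ 0 := fun h0 => hzi i (ext2 h0 hz1)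
    have h00 : ent (A i) 0 0 = 1 := by
      have h2 := hA z hzV i
      rw [hxz, mul_inv_cancel_right] at h2
      have h3 := congrFun h2 0
      rw [ap_zero', hz1, mul_zero, add_zero] at h3
      have h4 : (ent (A i) 0 0 - 1) * M.nat.e z i 0 = 0 := by
        rw [sub_mul, one_mul, ← h3, sub_self]
      rcases mul_eq_zero.1 h4 with h5 | h5
      · exact sub_eq_zero.1 h5
      · exact absurd h5 hz0
    have h11 : ent (A i) 1 1 = 1 := by
      have h2 := det_eq (A i)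
      rw [h10, mul_zero, sub_zero, h00, one_mul] at h2
      exact h2
    have hup : A i = up (ent (A i) 0 1) := ext_ent (by rw [up_00, h00]) (by rw [up_01]) (by rw [up_10, h10])
      (by rw [up_11, h11])
    obtain ⟨b, hb, hbA⟩ := hL.root_i i (ent (A i) 0 1)
    have h3 := acts_mul (M := M) hxH (acts_inv (M := M) hbA.1 hbA.2.1) hA
    have h4 := cent_N M hL.hm (mul_mem (inv_mem hbA.1) hxH) h3 (fun d hd => by
      have c1 : Commute b d := hbA.2.2 d hd
      have c2 : Commute x d := hxD d hd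
      exact (c1.inv_left.mul_left c2).eq) (i := i) (by
        rw [Pi.mul_apply, Pi.inv_apply, Pi.mulSingle_eq_same, ← hup, inv_mul_cancel]) hw.1 hw.2.1
    have h5 : b * w = w * b := hL.cB b hb w (hL.LiZ i hw)
    calc x * w = b * (b⁻¹ * x * w) := by group
      _ = b * (w * (b⁻¹ * x)) := by rw [h4]
      _ = (b * w) * b⁻¹ * x := by group
      _ = w * x := by rw [h5]; group
  have h1 := mem_iSup_Li hv ((hnb.ld ⟨0, hk⟩).mem v hv |>.1 hvX)
  have h2 : (⨆ i, Li M i) ≤ centralizer ({x} : Set G) := iSup_le fun i w hw => by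
    rw [mem_centralizer_singleton_iff]
    exact (key i w hw).symm
  exact (mem_centralizer_singleton_iff.1 (h2 h1)).symm

/-- The hypotheses. -/
structure Hyp (M : NatC F T H V D k) (B X : Subgroup G) (K c : Fin k → Subgroup G) (Q VP : Subgroup G) (z : G) :
    Prop where
  nb : NB' M B X K c
  /-- `N(B) ≤ N(X)` -/
  BX : normalizer (B : Set G) ≤ normalizer (X : Set G)
  QT : Q ≤ T
  TQ : T ≤ normalizer (Q : Set G)
  mem : ∀ x, x ∈ VP ↔ x ∈ X ∧ ∀ q ∈ Q, q * x = x * q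
  NT : H ⊓ normalizer (T : Set G) ≤ normalizer (Q : Set G)
  NQ : H ⊓ normalizer (Q : Set G) ≤ normalizer (VP : Set G)
  zV : z ∈ V
  zP : z ∈ VP
  zi : ∀ i, M.nat.e z i ≠ 0
  par : ∀ R : Subgroup G, IsMinPar T R → R ≤ H → R ≤ normalizer (B : Set G) →
    R ≤ normalizer (Q : Set G) ∨ ∀ x ∈ R, x * z = z * x

namespace Hyp

variable {Q VP : Subgroup G} {z : G} (h : Hyp M B X K c Q VP z)
include h

theorem syl : Syl T H := (h.nb.ld ⟨0, M.pos⟩).hm.syl

theorem VnH : H ≤ normalizer (V : Set G) := by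
  intro g hg
  rw [mem_normalizer_iff]
  refine fun x => ⟨M.Vn g hg x, fun hx => ?_⟩
  have := M.Vn g⁻¹ (inv_mem hg) _ hx
  have e : g⁻¹ * (g * x * g⁻¹) * g⁻¹⁻¹ = x := by group
  rwa [e] at this

/-- **`N_H(B)` normalises `VP ∩ V`.** -/
theorem norm_F [CharP F 2] : H ⊓ normalizer (B : Set G) ≤ normalizer ((VP ⊓ V : Subgroup G) : Set G) := by
  have hL := h.nb.ld ⟨0, M.pos⟩
  have hNQ : H ⊓ normalizer (Q : Set G) ≤ normalizer ((VP ⊓ V : Subgroup G) : Set G) := by
    intro g hg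
    rw [mem_normalizer_iff_cj, cj_inf, cj_eq_of_mem_normalizer (h.NQ hg),
      cj_eq_of_mem_normalizer (h.VnH (mem_inf.1 hg).1)]
  have hTB : T ≤ H ⊓ normalizer (B : Set G) := le_inf h.syl.1 hL.TB
  refine MinSimple.MinParabolic.le_of_forall hTB (fun g hg => ?_) fun R hR hRle => ?_
  · obtain ⟨⟨hgH, -⟩, hgT⟩ := hg
    exact hNQ ⟨hgH, h.NT ⟨hgH, hgT⟩⟩
  · have hRH := hRle.trans inf_le_left
    have hRB := hRle.trans inf_le_right
    rcases h.par R hR hRH hRB with h1 | h1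
    · exact (le_inf hRH h1).trans hNQ
    · have hsyl : Syl T R := ⟨hR.le, h.syl.2.1, fun Q' hQ' h2 hle => h.syl.2.2 Q' (hQ'.trans hRH) h2 hle⟩
      rw [← Dich.oddGen_sup_syl hsyl]
      refine sup_le (fun x hx => ?_) ((le_inf h.syl.1 h.TQ).trans hNQ)
      have hxR := oddGen_le R hx
      have hxA : x ∈ AA M := oddGen_le_AA h.syl (MinSimple.VModule.oddGen_mono hRH hx)
      have hxX := h.BX (hRB hxR)
      have hxz := h1 x hxR
      have hcen : ∀ v ∈ VP ⊓ V, x * v = v * x := fun v hv =>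
        cent_lines h.nb h.zV ((h.mem z).1 h.zP).1 h.zi hxA hxX hxz hv.2 ((h.mem v).1 hv.1).1
      exact centralizer_le_normalizer _ (mem_centralizer_iff.2 fun v hv => (hcen v hv).symm)

/-- **The lines are centralised by `Q`.** -/
theorem cent_c [Finite F] [CharP F 2] (hF : 2 < Nat.card F) (i : Fin k) : ∀ q ∈ Q, ∀ x ∈ c i, q * x = x * q := by
  have hL := h.nb.ld i
  have hpb := h.nb.pb i
  have hN1 : ∀ v, v ∈ Wn M i ⊓ X ↔ v ∈ Li M i := by
    intro v
    constructor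
    · rintro ⟨hv, hvX⟩
      exact ⟨hv.1, hv.2, (hL.mem v hv.1).1 hvX i⟩
    · intro hv
      exact ⟨⟨hv.1, hv.2.1⟩, hL.LiZ i hv⟩
  have htor : ∀ a ∈ Li M i, a ∉ D → ∀ b ∈ Li M i, b ∉ D →
      ∃ τ ∈ K i, τ ∈ normalizer (B : Set G) ∧ τ * a * τ⁻¹ * b⁻¹ ∈ D := fun a ha haD b hb hbD =>
    hpb.tor a ((hN1 a).2 ha) haD b ((hN1 b).2 hb) hbD
  have hQc : ∀ v ∈ VP ⊓ V, ∀ q ∈ Q, q * v = v * q := fun v hv => ((h.mem v).1 hv.1).2
  have hτF : ∀ τ ∈ K i, τ ∈ normalizer (B : Set G) → ∀ v ∈ VP ⊓ V, τ * v * τ⁻¹ ∈ VP ⊓ V := fun τ hτ hτB v hv =>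
    (mem_normalizer_iff.1 (h.norm_F ⟨hL.LH hτ, hτB⟩) v).1 hv
  -- the component of `z`
  have hz1 : ∀ j, M.nat.e z j 1 = 0 := (hL.mem z h.zV).1 ((h.mem z).1 h.zP).1
  obtain ⟨y, hy, ey⟩ := exists_line M i (M.nat.e z i 0)
  have hyD : y ∉ D := by
    intro hyD
    rw [D_e (M := M) hyD] at ey
    exact h.zi i (ext2 ey.symm (hz1 i))
  obtain ⟨a, ha0, ha1⟩ : ∃ a : F, a ≠ 0 ∧ a ≠ M.nat.e z i 0 := by
    by_contra hcon
    push Not at hcon
    have h1 : (Set.univ : Set F) ⊆ {0, M.nat.e z i 0} := by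
      intro x _
      by_cases hx : x = 0
      · exact Or.inl hx
      · exact Or.inr (hcon x hx)
    have h2 := Set.ncard_le_ncard h1 (Set.toFinite _)
    rw [Set.ncard_univ] at h2
    have h4 := Set.ncard_insert_le (0 : F) {M.nat.e z i 0}
    rw [Set.ncard_singleton] at h4
    omega
  obtain ⟨w, hw, ew⟩ := exists_line M i a
  have hwD : w ∉ D := by
    intro hwD
    rw [D_e (M := M) hwD] at ew
    exact ha0 ew.symm
  obtain ⟨τ, hτ, hτB, hτD⟩ := htor y hy hyD w hw hwD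
  have hzF : z ∈ VP ⊓ V := ⟨h.zP, h.zV⟩
  have hτH := hL.LH hτ
  -- `x = [z, τ]` is in the `i`-th line
  set x := τ * z * τ⁻¹ * z⁻¹ with hx
  have hxF : x ∈ VP ⊓ V := mul_mem (hτF τ hτ hτB z hzF) (inv_mem hzF)
  have hzy : z * y⁻¹ ∈ ⨆ j, Li M j := by
    refine mem_iSup_Li (mul_mem h.zV (inv_mem hy.1)) fun j => ?_
    rw [M.map_div h.zV hy.1, Pi.sub_apply, Pi.sub_apply, hz1 j]
    by_cases hji : j = i
    · subst hji; rw [hy.2.2, sub_zero]
    · rw [hy.2.1 j hji, Pi.zero_apply, sub_zero]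
  have hzyi : M.nat.e (z * y⁻¹) i = 0 := by
    rw [M.map_div h.zV hy.1, Pi.sub_apply, sub_eq_zero]
    exact ext2 ey.symm (by rw [hz1, hy.2.2])
  -- `τ` centralises `z y⁻¹`
  have hcen : ∀ v ∈ V, (∀ j, M.nat.e v j 1 = 0) → M.nat.e v i = 0 → τ * v = v * τ := by
    classical
    have key : ∀ s : Finset (Fin k), ∀ v ∈ V, (∀ j, M.nat.e v j 1 = 0) → M.nat.e v i = 0 →
        (∀ j ∉ s, M.nat.e v j = 0) → τ * v = v * τ := by
      intro s
      induction s using Finset.induction_on with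
      | empty =>
        intro v hv _ _ h1
        have h2 : v ∈ D := (M.nat.ker v hv).1 (funext fun j => h1 j (Finset.notMem_empty j))
        exact hL.cD τ hτ v h2
      | insert m s hm ih =>
        intro v hv h0 hi0 h1
        by_cases hmi : m = i
        · refine ih v hv h0 hi0 fun j hj => ?_
          by_cases hji : j = i
          · rw [hji]; exact hi0
          · exact h1 j fun h => (Finset.mem_insert.1 h).elim (fun e => hji (e.trans hmi)) hj
        · obtain ⟨u, hu, eu⟩ := exists_line M m (M.nat.e v m 0)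
          have hvu : v * u⁻¹ ∈ V := mul_mem hv (inv_mem hu.1)
          have h2 := ih (v * u⁻¹) hvu (fun j => ?_) ?_ fun j hj => ?_
          · have h3 := hL.LW τ hτ m hmi u hu
            have c1 : Commute τ (v * u⁻¹) := h2
            have c2 : Commute τ u := h3
            have c3 := c1.mul_right c2
            rw [inv_mul_cancel_right] at c3
            exact c3.eq
          · rw [M.map_div hv hu.1, Pi.sub_apply, Pi.sub_apply, h0 j]
            by_cases hjm : j = m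
            · subst hjm; rw [hu.2.2, sub_zero]
            · rw [hu.2.1 j hjm, Pi.zero_apply, sub_zero]
          · rw [M.map_div hv hu.1, Pi.sub_apply, hi0, hu.2.1 i (Ne.symm hmi), sub_zero]
          · rw [M.map_div hv hu.1, Pi.sub_apply]
            by_cases hjm : j = m
            · subst hjm
              rw [sub_eq_zero]
              exact ext2 eu.symm (by rw [h0, hu.2.2])
            · rw [h1 j (fun h => (Finset.mem_insert.1 h).elim hjm hj), hu.2.1 j hjm, sub_zero]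
    intro v hv h0 hi0
    exact key Finset.univ v hv h0 hi0 fun j hj => absurd (Finset.mem_univ j) hj
  have hzy1 : τ * (z * y⁻¹) = z * y⁻¹ * τ := hcen _ (mul_mem h.zV (inv_mem hy.1)) (fun j => by
    rw [M.map_div h.zV hy.1, Pi.sub_apply, Pi.sub_apply, hz1 j]
    by_cases hji : j = i
    · subst hji; rw [hy.2.2, sub_zero]
    · rw [hy.2.1 j hji, Pi.zero_apply, sub_zero]) hzyi
  have hτy : τ * y * τ⁻¹ ∈ V := M.Vn τ hτH y hy.1
  have hxe : x = τ * y * τ⁻¹ * y⁻¹ := by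
    have h1 : z * y⁻¹ * (y * z⁻¹) = 1 := by group
    calc x = (τ * (z * y⁻¹)) * y * τ⁻¹ * z⁻¹ := by rw [hx]; group
      _ = (z * y⁻¹) * (τ * y * τ⁻¹ * z⁻¹) := by rw [hzy1]; group
      _ = (z * y⁻¹) * (τ * y * τ⁻¹ * y⁻¹ * (y * z⁻¹)) := by group
      _ = (z * y⁻¹) * ((y * z⁻¹) * (τ * y * τ⁻¹ * y⁻¹)) := by
        rw [M.Vcomm (mul_mem hτy (inv_mem hy.1)) (mul_mem hy.1 (inv_mem h.zV))]
      _ = τ * y * τ⁻¹ * y⁻¹ := by rw [← mul_assoc, h1, one_mul]
  have hxV : x ∈ V := hxF.2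
  -- coordinates of `x`
  have hτe : M.nat.e (τ * y * τ⁻¹) = M.nat.e w := by
    have h1 := D_e (M := M) hτD
    rwa [M.map_div hτy hw.1, sub_eq_zero] at h1
  have hxLi : x ∈ Li M i := by
    refine ⟨hxV, fun j hj => ?_, ?_⟩
    · rw [hxe, M.map_div hτy hy.1, hτe, Pi.sub_apply, hw.2.1 j hj, hy.2.1 j hj, sub_zero]
    · rw [hxe, M.map_div hτy hy.1, hτe, Pi.sub_apply, Pi.sub_apply, hw.2.2, hy.2.2, sub_zero]
  have hxD : x ∉ D := by
    intro hxD
    have h1 := D_e (M := M) hxD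
    rw [hxe, M.map_div hτy hy.1, hτe, sub_eq_zero] at h1
    apply ha1
    rw [← ew, h1, ey]
  -- `Q` fixes `i`
  have hQi : ∀ q ∈ Q, MvI M q i i := by
    intro q hq
    have hqT := h.QT hq
    have hqH := hL.TH hqT
    obtain ⟨m, hm⟩ := MvI.ex M hqH i
    by_cases hmi : m = i
    · rwa [hmi] at hm
    · exfalso
      apply hxD
      have h1 := hm.Li hL.TH hqT hxLi
      rw [hQc x hxF q hq, mul_inv_cancel_right] at h1
      exact Li_D hxLi (by rw [h1.2.1 i (Ne.symm hmi)]; rfl)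
  -- every element of the line is in `(VP ∩ V) D`
  intro q hq v hv
  have hqT := h.QT hq
  have hvLi := h.nb.co.le i hv
  by_cases hvD : v ∈ D
  · rw [h.nb.co.dis i v hv hvD, mul_one, one_mul]
  · obtain ⟨σ, hσ, hσB, hσD⟩ := htor x hxLi hxD v hvLi hvD
    have hf : σ * x * σ⁻¹ ∈ VP ⊓ V := hτF σ hσ hσB x hxF
    set f := σ * x * σ⁻¹ with hf'
    have hqf := hQc f hf q hq
    have hd : f * v⁻¹ ∈ D := hσD
    have hqd := M.Dn q (hL.TH hqT) _ hd
    have h1 : q * v * q⁻¹ * v⁻¹ ∈ D := by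
      have e : q * v * q⁻¹ * v⁻¹ = (q * (f * v⁻¹) * q⁻¹)⁻¹ * (f * v⁻¹) := by
        calc q * v * q⁻¹ * v⁻¹ = q * v * q⁻¹ * f⁻¹ * (f * v⁻¹) := by group
          _ = q * v * (f⁻¹ * q⁻¹) * (f * v⁻¹) := by
            have h2 : q⁻¹ * f⁻¹ = f⁻¹ * q⁻¹ := by
              rw [← mul_inv_rev, ← mul_inv_rev, hqf]
            rw [mul_assoc (q * v), h2]
          _ = _ := by group
      rw [e]
      exact mul_mem (inv_mem hqd) hd
    have h2 : q * v * q⁻¹ ∈ c i := by
      rw [← h.nb.co.conj q hqT i i (hQi q hq)]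
      exact ⟨v, hv, rfl⟩
    have h3 := h.nb.co.dis i _ (mul_mem h2 (inv_mem hv)) h1
    exact mul_inv_eq_iff_eq_mul.1 (mul_inv_eq_one.1 h3)

/-- `c i ≤ VP` -/
theorem c_le [Finite F] [CharP F 2] (hF : 2 < Nat.card F) (i : Fin k) : c i ≤ VP := fun x hx =>
  (h.mem x).2 ⟨(h.nb.ld i).LiZ i (h.nb.co.le i hx), fun q hq => h.cent_c hF i q hq x hx⟩

end Hyp

end Cfsg.Agent.Omega.OM.LowT.LinCore
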