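import Cfsg.Agent.Omega.OM.Lev.Low.YKInst

/-!
# The hypothesis (LIN) of the port `LowT`

`LinH S P B R j`: for the parabolic `R` over `B` of the stage `j`: one natural block over `𝔽₄`, and the torus line is
in `V_P`. (Over `lev S (n+1)` this was `LinV.lin_V`; over `K₀ = O₂(P)` it comes from the choice of `R` with `|DX S P R|`
maximal, see `CaseLQ/Torus.lean` and `LowT/Lin.lean`.)
-/

set_option autoImplicit false
set_option linter.unusedSectionVars false

namespace Cfsg.Agent.Omega.OM.LowT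

open Subgroup Cfsg Cfsg.Agent.ZN.ChoiceBase Cfsg.Agent.ZN.ChoiceSit
open Cfsg.Agent.ZN (jj zj bau zc zl o2)
open Cfsg.Agent.Omega.FFThm (NatKM)
open Cfsg.Agent.Omega.FrameFF (cv)
open Cfsg.Agent.Omega.OM.Lev.Low

universe u

variable {G : Type u} [Group G] [Finite G]

/-- **(LIN)** -/
structure LinH (S : Sylow 2 G) (P B R : Subgroup G) (j : ℕ) : Prop where
  /-- one block over `𝔽₄` -/
  one : ∀ (F : Type) [Field F] [Finite F] [CharP F 2] (k : ℕ), 0 < k → NatKM F B R (zl B R) (cv B R) k →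
    4 ≤ Nat.card F → k = 1 ∧ Nat.card F = 4
  /-- the torus line is in `V_P` -/
  le : ∀ (K N₁ c : Subgroup G) (τ : G), PB (LevB.BL (S : Subgroup G) j) K (zl B R) N₁ (cv B R) 4 → K ≤ R →
    c ≤ N₁ → τ ∈ K → τ ∈ normalizer (LevB.BL (S : Subgroup G) j : Set G) → cj τ c = c →
    (∀ x ∈ c, τ * x * τ⁻¹ = x → x = 1) → c ≤ zl (S : Subgroup G) P

end Cfsg.Agent.Omega.OM.LowT
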