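import Cfsg.Agent.Omega.OM.Lev.Low.LinV
import Cfsg.Agent.Omega.OM.SWT.LowLev

/-!
# `hlin` from `c l ≤ Ω₁Z(K₀)`, over the frame `SWT.Ln P n`

`exists_mv_top` : some best offender `A i` at the top level does not centralise all `c l`;
`lin_top` : if all `c l` lie in `Ω₁Z(K₀)` (for `K₀ = O₂(P)`: in `V`), then `O₂(P)` fixes all `l`, `|c l| = 4`, `c l ≤ V`.
-/

set_option autoImplicit false
set_option linter.unusedSectionVars false

namespace Cfsg.Agent.Omega.OM.LowT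

open Subgroup Cfsg Cfsg.Agent.ZN.ChoiceBase Cfsg.Agent.ZN.ChoiceSit
open Cfsg.Agent.ZN (jj zj bau zc zl o2)
open Cfsg.Agent.Omega.NO3S.OneLine (BFam bo bo_fam)
open Cfsg.Agent.Omega.FFThm (ElemM)
open Cfsg.Agent.Omega.NO1.BestOff (Best)
open Cfsg.Agent.Omega.NO3S.Level (Lev BO nxt normalizer_le_zc)
open Cfsg.Agent.Omega.OM.SWT (Ln LV)
open Cfsg.Agent.Omega.OM.Lev.Low (YB Mv Cen)
open Cfsg.Agent.Omega.OM.Lev.Low.YB (QV Sub Wide)

universe u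

variable {G : Type u} [Group G] [Finite G] {ι Λ : Type} [Finite ι] {S : Sylow 2 G} {P : Subgroup G} {n : LV S}
  {L W Z C A : ι → Subgroup G} {T X : Subgroup G} {N c : Λ → Subgroup G}

/-- some `A i` does not centralise all `c l`. -/
theorem exists_mv_top (h : Ln P n L W Z C A 2) (hT : IsPGroup 2 T) (hB : SWT.BT n ≤ T) (hy : YB T X N c)
    (hVX : zl (S : Subgroup G) P ≤ X) (hZ : ∃ l, ¬ zc T ≤ N l) : ∃ i l, ¬ Cen (A i) (c l) := by
  by_contra hcon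
  push Not at hcon
  obtain ⟨l, hl⟩ := hZ
  refine hl ((SWT.zc_T_le n hT hB).trans (Lev.Low.zj_le h.fr fun i z hz => ?_))
  have hane := h.fr.Ane i
  push Not at hane
  obtain ⟨b, hb, v, hv, hbv⟩ := hane
  have r := Lev.Low.rt h.fr hB hb fun h1 => hbv (h1 v hv)
  obtain ⟨w, hw, rfl⟩ := r.all z hz
  have hcen := hcon i l
  have hbT : b ∈ T := hB (h.fr.AB i hb)
  have hbl : Mv N c b l l := hy.mv_of_cen hbT (hcen b hb)
  have hwX : w ∈ X := hVX hw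
  obtain ⟨y, hy', hyw⟩ := hy.fix l w hwX
  have e0 : w = y * (y * w) := by rw [← mul_assoc, hy.mul_self (hy.cX l hy'), one_mul]
  have hy1 : b * y * b⁻¹ = y := by rw [hcen b hb y hy']; group
  have hn' : b * (y * w) * b⁻¹ ∈ N l := hbl.cen.2 hyw
  have h5 := hy.cm (mul_mem (hy.cX l hy') hwX) (hy.cX l hy')
  have e1 : w * (b * w * b⁻¹) = (y * w) * (b * (y * w) * b⁻¹) := by
    calc w * (b * w * b⁻¹) = y * (y * w) * (b * (y * (y * w)) * b⁻¹) := by rw [← e0]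
      _ = y * (y * w) * ((b * y * b⁻¹) * (b * (y * w) * b⁻¹)) := by group
      _ = y * ((y * w) * y) * (b * (y * w) * b⁻¹) := by rw [hy1]; group
      _ = (y * y) * (y * w) * (b * (y * w) * b⁻¹) := by rw [h5]; group
      _ = _ := by rw [hy.mul_self (hy.cX l hy'), one_mul]
  rw [e1]
  exact mul_mem hyw hn'

/-- a 2-group over `B` normalises `Ω₁Z(K₀)` -/
theorem two_norm_top (n : LV S) (hT : IsPGroup 2 T) (hB : SWT.BT n ≤ T) : T ≤ normalizer (zc n.K : Set G) :=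
  ((SWT.lb n).two_le hT hB).trans ((SWT.norm_K n).trans (normalizer_le_zc _))

/-- **`hlin` from `c l ≤ Ω₁Z(K₀)`.** -/
theorem lin_top [Finite Λ] (h : Ln P n L W Z C A 2) (hT : IsPGroup 2 T) (hB : SWT.BT n ≤ T) (hy : YB T X N c)
    (hKX : zc n.K ≤ X) (htr : ∀ l m, ∃ t ∈ T, Mv N c t l m) (hs : Sub T N c) (hZ : ∃ l, ¬ zc T ≤ N l)
    (hw : ∀ l, Wide (zl (S : Subgroup G) P) N c l) (hc : ∀ l, c l ≤ zc n.K) (l : Λ) :
    (∀ q ∈ o2 P, Mv N c q l l) ∧ Nat.card (c l) = 4 ∧ c l ≤ zl (S : Subgroup G) P := by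
  have hym : YB T (zc n.K) N c := hy.mono_X hKX (two_norm_top n hT hB) hc
  obtain ⟨i, l₀, hl₀⟩ := exists_mv_top h hT hB hym h.fr.VX hZ
  have hqm : QV T (zc n.K) (o2 P) (zl (S : Subgroup G) P) := SWT.qv h hT hB (D := n) le_rfl
  have hA : A i ∈ bo T (zc n.K) := ⟨(h.fr.AB i).trans hB, h.fr.AX i, fun E h1 h2 => h.fr.best i E h1 h2⟩
  obtain ⟨h1, h2, h3⟩ := hym.lin hs (bo_fam T (zc n.K)) hqm (hw l₀) ⟨A i, hA, hl₀⟩
  obtain ⟨t, ht, htm⟩ := htr l₀ l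
  refine ⟨fun q hq => ?_, ?_, ?_⟩
  · have h4 : t⁻¹ * q * t ∈ o2 P := by
      have := (mem_normalizer_iff.1 (inv_mem (hqm.TQ ht)) q).1 hq
      rwa [inv_inv] at this
    have h5 := (htm.mul (h1 _ h4)).mul htm.inv
    have e : t * (t⁻¹ * q * t) * t⁻¹ = q := by group
    rwa [e] at h5
  · rw [← htm.2, card_cj, h2]
  · rw [← htm.2]
    rintro _ ⟨x, hx, rfl⟩
    exact YB.QV.memV hym hqm ht (h3 hx)

end Cfsg.Agent.Omega.OM.LowT
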