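import Cfsg.Agent.Omega.OM.LowT.YKInst
import Cfsg.Agent.Omega.OM.LowT.LinCore
import Cfsg.Agent.Omega.OM.LowT.LinTop
import Cfsg.Agent.Omega.OM.LowT.LinH
import Cfsg.Agent.Omega.OM.Lev.Low.OneOf
import Cfsg.Agent.Omega.OM.Lev.Low.Sub

/-!
# LIN (helper388 #25947) over `SWT.Ln P n`, `n.K = O₂(P)`: `LinH S P (BT n) Y j` from the choice of `Y`

No `Bg`, no `MulL`: natural and symmetric `V_P`.

* `cen_of_zero`, `z_ne` : the components of an element of `Ω₁Z(T)` which is not centralised by `Y`;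
* `hyp_of` : the instance of `LinCore.Hyp`;
* **`linH_of`**.
-/

set_option autoImplicit false
set_option linter.unusedSectionVars false

namespace Cfsg.Agent.Omega.OM.LowT.LinGen

open Subgroup Cfsg Cfsg.Agent.ZN.ChoiceBase Cfsg.Agent.ZN.ChoiceSit
open Cfsg.Agent.ZN (jj zj bau zc zl o2)
open Cfsg.Agent.Omega.NatPair (ext2)
open Cfsg.Agent.MinSimple.MinParabolic (IsMinPar)
open Cfsg.Agent.MinSimple.VModule (zc_le_zl)
open Cfsg.Agent.Omega.NO3S.OneLine (NatC natC_of)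
open Cfsg.Agent.Omega.OM.Lev.Nat (Wn mem_Wn)
open Cfsg.Agent.Omega.OM.GLev
open Cfsg.Agent.Omega.FFThm (NatKM SymKM)
open Cfsg.Agent.Omega.FrameFF (cv)
open Cfsg.Agent.Omega.OM.SWT (Ln LV ZT BT)
open Cfsg.Agent.Omega.OM.Lev.Low hiding OutN exists_out
open Cfsg.Agent.Omega.NO3S.Level (lev lev_mono lev_isLev Lev lev_le)

universe u

variable {G : Type u} [Group G] [Finite G]

section comp

variable {F : Type} [Field F] {T H V D : Subgroup G} {k : ℕ} {M : NatC F T H V D k} {B X : Subgroup G}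

/-- the block `L` of the `i`-th summand centralises the elements on the lines with trivial `i`-th component -/
theorem cen_of_zero {L : Subgroup G} {i : Fin k} (hL : LD M B X L i) {v : G} (hv : v ∈ V)
    (h0 : ∀ j, M.nat.e v j 1 = 0) (hi0 : M.nat.e v i = 0) : ∀ l ∈ L, l * v = v * l := by
  classical
  intro τ hτ
  have key : ∀ s : Finset (Fin k), ∀ v ∈ V, (∀ j, M.nat.e v j 1 = 0) → M.nat.e v i = 0 →
      (∀ j ∉ s, M.nat.e v j = 0) → τ * v = v * τ := by
    intro s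
    induction s using Finset.induction_on with
    | empty =>
      intro v hv _ _ h1
      have h2 : v ∈ D := (M.nat.ker v hv).1 (funext fun j => h1 j (Finset.notMem_empty j))
      exact hL.cD τ hτ v h2
    | insert m s hm ih =>
      intro v hv h0 hi0 h1
      by_cases hmi : m = i
      · refine ih v hv h0 hi0 fun j hj => ?_
        by_cases hji : j = i
        · rw [hji]; exact hi0
        · exact h1 j fun h => (Finset.mem_insert.1 h).elim (fun e => hji (e.trans hmi)) hj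
      · obtain ⟨u, hu, eu⟩ := exists_line M m (M.nat.e v m 0)
        have hvu : v * u⁻¹ ∈ V := mul_mem hv (inv_mem hu.1)
        have h2 := ih (v * u⁻¹) hvu (fun j => ?_) ?_ fun j hj => ?_
        · have h3 := hL.LW τ hτ m hmi u hu
          have c1 : Commute τ (v * u⁻¹) := h2
          have c2 : Commute τ u := h3
          have c3 := c1.mul_right c2
          rw [inv_mul_cancel_right] at c3
          exact c3.eq
        · rw [M.map_div hv hu.1, Pi.sub_apply, Pi.sub_apply, h0 j]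
          by_cases hjm : j = m
          · subst hjm; rw [hu.2.2, sub_zero]
          · rw [hu.2.1 j hjm, Pi.zero_apply, sub_zero]
        · rw [M.map_div hv hu.1, Pi.sub_apply, hi0, hu.2.1 i (Ne.symm hmi), sub_zero]
        · rw [M.map_div hv hu.1, Pi.sub_apply]
          by_cases hjm : j = m
          · subst hjm
            rw [sub_eq_zero]
            exact ext2 eu.symm (by rw [h0, hu.2.2])
          · rw [h1 j (fun h => (Finset.mem_insert.1 h).elim hjm hj), hu.2.1 j hjm, sub_zero]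
  exact key Finset.univ v hv h0 hi0 fun j hj => absurd (Finset.mem_univ j) hj

/-- **The components of a `T`-fixed element on the lines which is not centralised by `H`.** -/
theorem z_ne {K c : Fin k → Subgroup G} (hnb : NB' M B X K c) (hsup : ∀ i, H ≤ T ⊔ K i) {z : G} (hzV : z ∈ V)
    (hzX : z ∈ X) (hzT : ∀ t ∈ T, t * z = z * t) (hz : ¬ ∀ x ∈ H, x * z = z * x) (i : Fin k) :
    M.nat.e z i ≠ 0 := by
  intro h0
  apply hz
  have h1 := cen_of_zero (hnb.ld i) hzV (((hnb.ld i).mem z hzV).1 hzX) h0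
  have h2 : H ≤ centralizer ({z} : Set G) := (hsup i).trans (sup_le
    (fun t ht => mem_centralizer_singleton_iff.2 (hzT t ht))
    fun t ht => mem_centralizer_singleton_iff.2 (h1 t ht))
  exact fun x hx => mem_centralizer_singleton_iff.1 (h2 hx)

/-- the elements of `V` in `X` are products of elements of the lines `c i` and of `D` -/
theorem mem_lines [Finite F] {K c : Fin k → Subgroup G} (hnb : NB' M B X K c) {E : Subgroup G} (hE : ∀ i, c i ≤ E)
    {v : G} (hv : v ∈ V) (hvX : v ∈ X) : v ∈ E ⊔ D := by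
  have h1 := LinCore.mem_iSup_Li hv ((hnb.ld ⟨0, M.pos⟩).mem v hv |>.1 hvX)
  refine (iSup_le fun i w hw => ?_ : (⨆ i, Li M i) ≤ E ⊔ D) h1
  obtain ⟨a, ha, d, hd, rfl⟩ := hnb.co.cov i w hw
  exact mul_mem (mem_sup_left (hE i ha)) (mem_sup_right hd)

end comp

section main

variable {ι : Type} [Finite ι] {S : Sylow 2 G} {P : Subgroup G} {n : LV S} {L W Z C A : ι → Subgroup G} {Y : Subgroup G}
  {j : ℕ}

/-- **The instance of `LinCore.Hyp`.** -/
theorem hyp_of (h : Ln P n L W Z C A 2) (hQ : n.K = o2 P)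
    (hNQ : normalizer (o2 P : Set G) ≤ normalizer (zl (S : Subgroup G) P : Set G))
    (hZ : ¬ Y ≤ centralizer (zc (BT n) : Set G))
    (hYb : ∀ R' : Subgroup G, IsMinPar (BT n) R' → R' ≤ Y → R' ≤ normalizer (LevB.BL (S : Subgroup G) j : Set G) →
      R' ≤ normalizer (o2 P : Set G) ∨ R' ≤ centralizer (ZT n : Set G))
    {F : Type} [Field F] {k : ℕ} {M : NatC F (BT n) Y (zl (BT n) Y) (cv (BT n) Y) k} {K Nn c : Fin k → Subgroup G}
    (hin : Inp P n L W Z C A (BT n) Y j K (fun i => Wn M i) Nn c)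
    (hnb : NB' M (LevB.BL (S : Subgroup G) j) (zc (lev (S : Subgroup G) j)) K c) :
    ∃ z, LinCore.Hyp M (LevB.BL (S : Subgroup G) j) (zc (lev (S : Subgroup G) j)) K c (o2 P)
      (zl (S : Subgroup G) P) z := by
  have hqv := hin.qv
  have hB2 := hin.syl.2.1
  obtain ⟨y, hy, hyz⟩ := SetLike.not_le_iff_exists.1 hZ
  rw [mem_centralizer_iff] at hyz
  push Not at hyz
  obtain ⟨z, hz, hyz⟩ := hyz
  have hzJ : z ∈ ZT n := SWT.zc_T_le n hB2 le_rfl hz
  have hzP : z ∈ zl (S : Subgroup G) P := h.fr.ZJV hzJ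
  have hzX := hqv.VX hzP
  have hzV : z ∈ zl (BT n) Y := MinSimple.VModule.zc_le_zl (BT n) Y hz
  refine ⟨z, ⟨hnb, ?_, hqv.QT, hqv.TQ, hqv.mem, ?_, inf_le_right.trans hNQ, hzV, hzP, ?_, ?_⟩⟩
  · exact (LevB.lb S j).nrm _ (S.isPGroup'.to_le (LevB.lb S j).BS) (LevB.lb S j).KB
  · rw [← hQ]
    exact inf_le_right.trans (SWT.norm_K n)
  · exact z_ne hnb hin.yk.sup hzV hzX (fun t ht => (mem_zc.1 hz).2.2 t ht) fun hc => hyz (hc y hy).symm
  · intro R hR hRY hRB
    rcases hYb R hR hRY hRB with h1 | h1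
    · exact Or.inl h1
    · exact Or.inr fun x hx => (mem_centralizer_iff.1 (h1 hx) z hzJ).symm

/-- **LIN.** -/
theorem linH_of (h : Ln P n L W Z C A 2) (hQ : n.K = o2 P)
    (hNQ : normalizer (o2 P : Set G) ≤ normalizer (zl (S : Subgroup G) P : Set G))
    (hT : Syl (BT n) Y) (hP : IsMinPar (BT n) Y) (hc : Y ⊓ centralizer (o2 Y : Set G) ≤ o2 Y)
    (hZ : ¬ Y ≤ centralizer (zc (BT n) : Set G)) (hj : lev (S : Subgroup G) j ≤ n.K)
    (hlow : ∀ i < j, lev (S : Subgroup G) i ≤ o2 Y) (hnj : ¬ lev (S : Subgroup G) j ≤ o2 Y)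
    (hYb : ∀ R' : Subgroup G, IsMinPar (BT n) R' → R' ≤ Y → R' ≤ normalizer (LevB.BL (S : Subgroup G) j : Set G) →
      R' ≤ normalizer (o2 P : Set G) ∨ R' ≤ centralizer (ZT n : Set G)) : LinH S P (BT n) Y j := by
  have hBj : LevB.BL (S : Subgroup G) j ≤ BT n := BL_le_BT hj
  constructor
  · intro F _ _ _ k hk N hF
    obtain ⟨X, AA', hge, hbz, hex, -⟩ := exists_ge S hT hBj hP hc hlow hnj hZ
    obtain ⟨K, Nn, c, hyk, hnb⟩ := yk_nat hge hbz N hk hex
    have hin : Inp P n L W Z C A (BT n) Y j K (fun i => Wn (natC_of hge.hm hk N.toNatK) i) Nn c :=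
      ⟨h, hT, le_rfl, hj, hc, hlow, hyk⟩
    obtain ⟨z, hz⟩ := hyp_of h hQ hNQ hZ hYb hin hnb
    have hcV := fun l => hz.c_le (by omega) l
    have hyb := hyk.yb
    have hzN : ∀ l, ¬ zc (BT n) ≤ Nn l := by
      intro l hle
      refine hZ ((hyk.sup l).trans (sup_le (NO3S.Level.le_centralizer_zc _) fun x hx => mem_centralizer_iff.2
        fun z hz => ?_))
      have hzX : z ∈ zc (lev (S : Subgroup G) j) :=
        hin.qv.VX (h.fr.ZJV (SWT.zc_T_le n hT.2.1 le_rfl hz))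
      exact ((hyk.memN l z hzX).1 (hle hz) x hx).symm
    have hKX : zc n.K ≤ zc (lev (S : Subgroup G) j) :=
      LV.zc_le (D := (⟨_, lev_isLev (S : Subgroup G) j⟩ : LV S)) hj
    have hlin := fun l => lin_top h hT.2.1 le_rfl hyb hKX hyk.tr (sub_of_co hge.hm N hk hnb.co hyb)
      ⟨⟨0, hk⟩, hzN _⟩ (hin.wide ⟨⟨0, hk⟩, hzN _⟩) (fun l => (hcV l).trans h.fr.VX) l
    have : Nonempty ι := ⟨(exists_mv_top h hT.2.1 le_rfl hyb hin.qv.VX ⟨⟨0, hk⟩, hzN _⟩).choose⟩
    have hfix := Line.fix_all h.fr hyb (fun q hq l => (hlin l).1 q hq) (fun l => (hlin l).2.2)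
      fun l => by rw [(hlin l).2.1]; norm_num
    refine ⟨?_, ?_⟩
    · have key : ∀ i : Fin k, i = ⟨0, hk⟩ := by
        intro i
        obtain ⟨t, ht, hm⟩ := hyk.tr ⟨0, hk⟩ i
        exact hyb.uniq hm (hfix t ht _)
      have h2 : Fintype.card (Fin k) = 1 := Fintype.card_eq_one_iff.2 ⟨_, key⟩
      rwa [Fintype.card_fin] at h2
    · rw [← hnb.co.card ⟨0, hk⟩]
      exact (hlin _).2.1
  · intro K₀ N₁ c₀ τ hpb hK₀ hcN hτ hτB hτc hτ1
    obtain ⟨X, AA', hge, hbz, hex, F, _, _, _, k, hk, N, K, Nn, c, hout⟩ := exists_out h hT le_rfl hP hc hZ hj hlow hnj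
    obtain ⟨z, hz⟩ := hyp_of h hQ hNQ hZ hYb hout.inp hout.nb
    have hF : 2 < Nat.card F := by
      rw [← hout.nb.co.card ⟨0, hk⟩]
      exact YB.Wide.two_lt (hout.wide _)
    have hcV := fun l => hz.c_le hF l
    have hτY : τ ∈ Y ⊓ normalizer (LevB.BL (S : Subgroup G) j : Set G) := ⟨hK₀ hτ, hτB⟩
    -- `[x, τ] ∈ V_P` for `x ∈ c₀`
    have key : ∀ x ∈ c₀, τ * x * τ⁻¹ * x⁻¹ ∈ zl (S : Subgroup G) P := by
      intro x hx
      have hxN := hpb.N1N (hcN hx)
      have hxX : x ∈ zc (lev (S : Subgroup G) j) := by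
        rw [← LevB.zc_B S j]
        exact mem_zc.2 ⟨hpb.NB hxN, Cfsg.Agent.Omega.SQ1.Bau.elem_sq hpb.el x hxN, fun b hb => hpb.N1c b hb x (hcN hx)⟩
      obtain ⟨a, ha, d, hd, rfl⟩ := Cfsg.Agent.Omega.SQ1.Bau.mem_sup_comm
        (fun a ha b hb => hpb.comm (mem_inf.1 ha).2 (hpb.N1N (hpb.N01 hb)))
        (mem_lines hout.nb (E := zl (S : Subgroup G) P ⊓ zl (BT n) Y)
          (fun i => le_inf (hcV i) fun y hy => (hout.nb.co.le i hy).1) hxN hxX)
      have h1 : τ * a * τ⁻¹ ∈ zl (S : Subgroup G) P ⊓ zl (BT n) Y := (mem_normalizer_iff.1 (hz.norm_F hτY) a).1 ha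
      have h2 := hpb.N0c τ hτ d hd
      have h3 : τ * (a * d) * τ⁻¹ * (a * d)⁻¹ = τ * a * τ⁻¹ * a⁻¹ := by
        calc τ * (a * d) * τ⁻¹ * (a * d)⁻¹ = τ * a * (d * τ⁻¹) * d⁻¹ * a⁻¹ := by group
          _ = τ * a * (τ⁻¹ * d) * d⁻¹ * a⁻¹ := by
            have h4 : d * τ⁻¹ = τ⁻¹ * d := by
              calc d * τ⁻¹ = τ⁻¹ * (τ * d) * τ⁻¹ := by group
                _ = τ⁻¹ * (d * τ) * τ⁻¹ := by rw [h2]
                _ = τ⁻¹ * d := by group
            rw [h4]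
          _ = _ := by group
      rw [h3]
      exact mul_mem h1.1 (inv_mem ha.1)
    have hcomm : ∀ x ∈ c₀, ∀ y ∈ c₀, x * y = y * x := fun x hx y hy =>
      hpb.comm (hpb.N1N (hcN hx)) (hpb.N1N (hcN hy))
    have hmem : ∀ x ∈ c₀, τ * x * τ⁻¹ ∈ c₀ := fun x hx => by
      have h1 : τ * x * τ⁻¹ ∈ cj τ c₀ := ⟨x, hx, rfl⟩
      rwa [hτc] at h1
    have hinj : Function.Injective (fun x : c₀ => (⟨τ * x * τ⁻¹ * (x : G)⁻¹, mul_mem (hmem x x.2) (inv_mem x.2)⟩ : c₀)) := by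
      rintro ⟨x, hx⟩ ⟨y, hy⟩ hxy
      have h1 : τ * x * τ⁻¹ * x⁻¹ = τ * y * τ⁻¹ * y⁻¹ := congrArg Subtype.val hxy
      have h2 := hτ1 (y⁻¹ * x) (mul_mem (inv_mem hy) hx) (by
        have e1 : τ * (y⁻¹ * x) * τ⁻¹ = (τ * y * τ⁻¹)⁻¹ * (τ * x * τ⁻¹) := by group
        have e2 : τ * x * τ⁻¹ = τ * y * τ⁻¹ * (y⁻¹ * x) := by
          calc τ * x * τ⁻¹ = τ * x * τ⁻¹ * x⁻¹ * x := by group
            _ = τ * y * τ⁻¹ * y⁻¹ * x := by rw [h1]
            _ = _ := by group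
        rw [e1, e2]
        group)
      exact Subtype.ext (inv_mul_eq_one.1 h2).symm
    intro x hx
    obtain ⟨⟨y, hy⟩, e⟩ := Finite.surjective_of_injective hinj ⟨x, hx⟩
    have e1 : τ * y * τ⁻¹ * y⁻¹ = x := congrArg Subtype.val e
    rw [← e1]
    exact key y hy

end main

end Cfsg.Agent.Omega.OM.LowT.LinGen
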