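import Cfsg.Agent.Omega.NO3S.WY.NoWSel
import Cfsg.Agent.Omega.OM.SWT.Base

/-!
# (LIN): the parabolics in `Y_b` (helper388 #25947)

`Y` weird with `|D_Y|` maximal (`Mx`), `J ≤ O₂(P)` weakly closed in `S`, `J ≰ O₂(Y)`.

* `norm_or` : a minimal parabolic `R ≤ Y ∩ N(J)` over `B` normalises `O₂(P)` or centralises `Z_J`;
* `norm_or_lev` : the same for `R ≤ N(B_j)`, `lev S j ≤ O₂(P)`, `lev S j ≰ O₂(Y)`;
* `norm_Q` : `N_G(B) ≤ N_G(O₂(P))`.
-/

set_option autoImplicit false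
set_option linter.unusedSectionVars false

namespace Cfsg.Agent.Omega.OM.LowT

open Subgroup Cfsg Cfsg.Agent.ZN.ChoiceBase Cfsg.Agent.ZN.ChoiceSit
open Cfsg.Agent.ZN (jj zj bau zc zl o2)
open Cfsg.Agent.MinSimple.MinParabolic (IsMinPar)
open Cfsg.Agent.Omega.NO3b.Wc (WC)
open Cfsg.Agent.Omega.NO3S.Level (lev lev_isLev lev_wc)
open Cfsg.Agent.Omega.NO3S.RedC (DX DX_le DX_le_P DX_le_X le_DX wc_DX)
open Cfsg.Agent.Omega.NO3S.WY.Sel (Wd Mx)
open Cfsg.Agent.Omega.Node.MulX (MulL)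

universe u

variable {G : Type u} [Group G] [Finite G] {S : Sylow 2 G} {P B ZJ : Subgroup G}

section

variable {ι : Type} {Z : ι → Subgroup G} {j : ι} {Y : Subgroup G}

/-- **The parabolics in `Y ∩ N(J)`.** -/
theorem norm_or (hQ : WC (S : Subgroup G) (o2 P)) (hQB : o2 P ≤ B) (hBS : B ≤ (S : Subgroup G))
    (hw : Wd S P B ZJ Z j Y) (hx : Mx S P B ZJ Z Y) {J : Subgroup G} (hJ : WC (S : Subgroup G) J)
    (hJQ : J ≤ o2 P) (hJY : ¬ J ≤ o2 Y) {R : Subgroup G} (hR : IsMinPar B R) (hRY : R ≤ Y)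
    (hRJ : R ≤ normalizer (J : Set G)) : R ≤ normalizer (o2 P : Set G) ∨ R ≤ centralizer (ZJ : Set G) := by
  by_cases hmv : R ≤ centralizer (ZJ : Set G)
  · exact Or.inr hmv
  left
  have hBR : B ≤ R := hR.le
  have hB2 : IsPGroup 2 B := hw.syl.2.1
  have hsyl : Syl B R := ⟨hBR, hB2, fun Q' hQ' hQ2 hle => hw.syl.2.2 Q' (hQ'.trans hRY) hQ2 hle⟩
  have hoR : o2 R ≤ (S : Subgroup G) := (o2_le_syl hsyl).trans hBS
  by_cases hQR : o2 P ≤ o2 R
  · exact (le_normalizer_o2 R).trans (NO3S.Level.WC.norm_le hQ hQR hoR)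
  exfalso
  have hoY : o2 Y ≤ (S : Subgroup G) := (o2_le_syl hw.syl).trans hBS
  -- `O₂(Y) ≤ O₂(R)`
  have h1 : o2 Y ≤ o2 R := le_o2 (isPGroup_o2 Y) ((o2_le_syl hw.syl).trans hBR) (hRY.trans (le_normalizer_o2 Y))
  have hW : Wd S P B ZJ Z j R :=
    ⟨hR, hsyl, fun x hx' => h1 (hw.c2 ⟨hRY hx'.1, centralizer_le h1 hx'.2⟩), fun l hl => hRY.trans (hw.cen l hl),
      hQR, hmv⟩
  -- `K♯ = D_Y J ≤ O₂(R)`
  have hRD : R ≤ normalizer (DX (S : Subgroup G) P Y : Set G) :=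
    hRY.trans ((le_normalizer_o2 Y).trans (NO3S.Level.WC.norm_le (wc_DX _ _ _) (DX_le_X _ _ _) hoY))
  have hKw : WC (S : Subgroup G) (DX (S : Subgroup G) P Y ⊔ J) := by
    have h2 : WC (S : Subgroup G) (sSup {DX (S : Subgroup G) P Y, J}) := WC.sSup fun b hb => by
      rcases hb with rfl | rfl
      · exact wc_DX _ _ _
      · exact hJ
    rwa [sSup_pair] at h2
  have hKQ : DX (S : Subgroup G) P Y ⊔ J ≤ o2 P := sup_le (DX_le_P _ _ _) hJQ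
  have hKR : DX (S : Subgroup G) P Y ⊔ J ≤ o2 R := by
    refine le_o2 (hB2.to_le (hKQ.trans hQB)) ((hKQ.trans hQB).trans hBR) ?_
    intro r hr
    have e : cj r (DX (S : Subgroup G) P Y ⊔ J) = cj r (DX (S : Subgroup G) P Y) ⊔ cj r J := Subgroup.map_sup _ _ _
    rw [mem_normalizer_iff_cj, e, cj_eq_of_mem_normalizer (hRD hr), cj_eq_of_mem_normalizer (hRJ hr)]
  have h3 := le_DX hKw hKQ hKR
  have h4 := hx j R hW
  have h5 : DX (S : Subgroup G) P Y = DX (S : Subgroup G) P R := by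
    refine Subgroup.eq_of_le_of_card_ge (le_sup_left.trans h3) h4
  apply hJY
  exact (le_sup_right.trans (h3.trans h5.ge)).trans (DX_le_X _ _ _)

end

section mul

variable {k : ℕ} {L W Z C A : Fin k → Subgroup G} {q : ℕ} {i₀ : Fin k} {Y : Subgroup G}

/-- `O₂(P)` is weakly closed in `S`. -/
theorem wc_Q (h : MulL S P B ZJ L W Z C A q) : WC (S : Subgroup G) (o2 P) := Lev.Wc.wc_Lev h.cl.levQ

/-- `N_G(B) ≤ N_G(O₂(P))` -/
theorem norm_Q (h : MulL S P B ZJ L W Z C A q) : normalizer (B : Set G) ≤ normalizer (o2 P : Set G) :=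
  Lev.Wc.norm_B_Lev h.cl.levQ h.eqB

/-- **hYb** at a level. -/
theorem norm_or_lev (h : MulL S P B ZJ L W Z C A q) (hw : Wd S P B ZJ Z i₀ Y) (hx : Mx S P B ZJ Z Y) {j : ℕ}
    (hj : lev (S : Subgroup G) j ≤ o2 P) (hnj : ¬ lev (S : Subgroup G) j ≤ o2 Y) {R : Subgroup G}
    (hR : IsMinPar B R) (hRY : R ≤ Y) (hRB : R ≤ normalizer (LevB.BL (S : Subgroup G) j : Set G)) :
    R ≤ normalizer (o2 P : Set G) ∨ R ≤ centralizer (ZJ : Set G) := by
  refine norm_or (wc_Q h) h.fr.QB (h.eB.trans_le inf_le_left) hw hx (lev_wc j) hj hnj hR hRY (hRB.trans ?_)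
  exact (lev_isLev (S : Subgroup G) j).norm _ (Lev.Wc.lev_le_B S) inf_le_left

end mul

end Cfsg.Agent.Omega.OM.LowT
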