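import Cfsg.Agent.Omega.OM.Lev.Low.Full
import Cfsg.Agent.Omega.OM.LowT.Frm

/-!
# TORUS, `q = 2`: (W) (helper607 #23961), over the frame `SWT.Ln P n`

Port of `OM/Lev/Low/Full.lean`.

* `full_of_conj` : **(W)**: if `z, g z g⁻¹ ∈ Z_J` and `z` has full support then so has `g z g⁻¹`;
* `full_V'` : the same in `V`;
* `line'` : (L) over `Ln` + `Bg`.
-/

set_option autoImplicit false
set_option linter.unusedSectionVars false

namespace Cfsg.Agent.Omega.OM.LowT.Line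

open Subgroup Cfsg Cfsg.Agent.ZN.ChoiceBase Cfsg.Agent.ZN.ChoiceSit
open Cfsg.Agent.ZN (jj zj bau zc zl o2)
open Cfsg.Agent.Omega.OM.Lev.Uni (FrL)
open Cfsg.Agent.Omega.OM.SWT (Ln LV)
open Cfsg.Agent.Omega.OM.Lev.Low.Line
open Cfsg.Agent.Omega.NO3S.EThree.Frame (Bg)
open Cfsg.Agent.Omega.NO3S.Level (lev)

universe u

section W

variable {G : Type u} [Group G] [Finite G] {ι : Type} [Finite ι] {S : Sylow 2 G} {P : Subgroup G} {n : LV S}
  {L W Z C A : ι → Subgroup G}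

theorem norm_ZL {y z : G} (hy : y ∈ normalizer (SWT.BT n : Set G)) (hz : z ∈ SWT.ZT n) :
    y * z * y⁻¹ ∈ SWT.ZT n := by
  have h4 := cj_eq_of_mem_normalizer ((SWT.lb n).norm_B_le hy)
  have h5 : y * z * y⁻¹ ∈ cj y (SWT.ZT n) := ⟨z, hz, rfl⟩
  rwa [h4] at h5

theorem full_norm (hL : Ln P n L W Z C A 2) {y z : G} (hy : y ∈ normalizer (SWT.BT n : Set G))
    (hz : z ∈ SWT.ZT n) (hf : Full C z) : Full C (y * z * y⁻¹) := by
  intro j hj
  obtain ⟨i, -, -, h1⟩ := LowT.perm hL (inv_mem hy) j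
  have h2 := (h1 _ (norm_ZL hy hz)).2 hj
  have e : y⁻¹ * (y * z * y⁻¹) * y⁻¹⁻¹ = z := by group
  rw [e] at h2
  exact hf i h2

/-- `S` centralises the element of full support -/
theorem S_cent (hL : Ln P n L W Z C A 2)
    (hB : Bg S P (SWT.BT n) (SWT.ZT n) L W Z C 2) {z : G}
    (hz : z ∈ SWT.ZT n) (hf : Full C z) {s : G} (hs : s ∈ (S : Subgroup G)) : s * z = z * s := by
  have h1 := hB.S_norm_B hs
  have h2 := full_unique hL.fr (norm_ZL h1 hz) hz (full_norm hL h1 hz hf) hf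
  exact mul_inv_eq_iff_eq_mul.1 h2

/-- **(W)** -/
theorem full_of_conj (hL : Ln P n L W Z C A 2)
    (hB : Bg S P (SWT.BT n) (SWT.ZT n) L W Z C 2) {z g : G}
    (hz : z ∈ SWT.ZT n) (hg : g * z * g⁻¹ ∈ SWT.ZT n) (hf : Full C z) :
    Full C (g * z * g⁻¹) := by
  have : Fact (Nat.Prime 2) := ⟨Nat.prime_two⟩
  obtain ⟨z', hz'⟩ : ∃ z', z' = g * z * g⁻¹ := ⟨_, rfl⟩
  rw [← hz'] at hg ⊢
  have hBz : SWT.BT n ≤ centralizer ({z'} : Set G) := by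
    intro b hb
    rw [hB.eqB] at hb
    rw [mem_centralizer_singleton_iff]
    exact (mem_centralizer_iff.1 hb.2 z' hg).symm
  have hSz : ((g • S : Sylow 2 G) : Subgroup G) ≤ centralizer ({z'} : Set G) := by
    rw [Sylow.coe_subgroup_smul]
    rintro _ ⟨s, hs, rfl⟩
    rw [mem_centralizer_singleton_iff]
    have h1 := S_cent hL hB hz hf hs
    change g * s * g⁻¹ * z' = z' * (g * s * g⁻¹)
    rw [hz']
    calc g * s * g⁻¹ * (g * z * g⁻¹) = g * (s * z) * g⁻¹ := by group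
      _ = g * (z * s) * g⁻¹ := by rw [h1]
      _ = _ := by group
  have hB2 : IsPGroup 2 ((SWT.BT n).subgroupOf (centralizer ({z'} : Set G))) :=
    (hB.bau_two).comap_of_injective _ (Subgroup.subtype_injective _)
  obtain ⟨R, hR⟩ := hB2.exists_le_sylow
  obtain ⟨x, hx⟩ := MulAction.exists_smul_eq (centralizer ({z'} : Set G)) ((g • S).subtype hSz) R
  have h2 : SWT.BT n ≤ cj ((x : G) * g) (S : Subgroup G) := by
    intro b hb
    have h3 : (⟨b, hBz hb⟩ : centralizer ({z'} : Set G)) ∈ R := hR hb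
    rw [← hx] at h3
    obtain ⟨⟨c, hc⟩, hc1, e⟩ := h3
    obtain ⟨s, hs, rfl⟩ := hc1
    refine ⟨s, hs, ?_⟩
    have e2 : (x : G) * (g * s * g⁻¹) * (x : G)⁻¹ = b := congrArg Subtype.val e
    change (x : G) * g * s * ((x : G) * g)⁻¹ = b
    rw [← e2]
    group
  have h3 : cj ((x : G) * g)⁻¹ (SWT.BT n) ≤ (S : Subgroup G) := by
    have := cj_mono ((x : G) * g)⁻¹ h2
    rwa [cj_inv_cj] at this
  have h4 : ((x : G) * g)⁻¹ ∈ normalizer (SWT.BT n : Set G) :=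
    mem_normalizer_iff_cj.2 (SWT.wc n (S : Subgroup G) S.isPGroup' (SWT.lb n).BS _ h3)
  have h5 : (x : G) * g ∈ normalizer (SWT.BT n : Set G) := inv_mem_iff.1 h4
  have h6 := full_norm hL h5 hz hf
  have e : (x : G) * g * z * ((x : G) * g)⁻¹ = z' := by
    have h7 := mem_centralizer_singleton_iff.1 x.2
    calc (x : G) * g * z * ((x : G) * g)⁻¹ = x * (g * z * g⁻¹) * (x : G)⁻¹ := by group
      _ = z' := by rw [← hz', h7]; group
  rwa [e] at h6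

/-- (W) in `V` -/
theorem full_V' (hL : Ln P n L W Z C A 2)
    (hB : Bg S P (SWT.BT n) (SWT.ZT n) L W Z C 2) {v g : G}
    (hv : v ∈ zl (S : Subgroup G) P) (hg : g * v * g⁻¹ ∈ zl (S : Subgroup G) P) (hf : Full C v) :
    Full C (g * v * g⁻¹) :=
  full_V hL.fr (tr_of hB) (fun _ hz _ hg hf => full_of_conj hL hB hz hg hf) hv hg hf

/-- **(L)** over `Ln` + `Bg` -/
theorem line' (hL : Ln P n L W Z C A 2)
    (hB : Bg S P (SWT.BT n) (SWT.ZT n) L W Z C 2)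
    {c N : Subgroup G} (hcV : c ≤ zl (S : Subgroup G) P) (hc4 : Nat.card c = 4)
    (hfix : ∀ x ∈ zc n.K, ∃ a ∈ c, a * x ∈ N)
    (htriv : c ⊓ N = ⊥) (hBc : ∀ b ∈ SWT.BT n, ∀ x ∈ c, b * x * b⁻¹ ∈ c)
    (hBN : ∀ b ∈ SWT.BT n, ∀ x ∈ N, b * x * b⁻¹ ∈ N)
    (hZJ : ¬ SWT.ZT n ≤ N) {τ : G} (hτc : ∀ x ∈ c, τ * x * τ⁻¹ ∈ c)
    (hτ1 : ∀ x ∈ c, τ * x * τ⁻¹ = x → x = 1) (hτN : ∀ x ∈ N, τ * x * τ⁻¹ = x) :
    ∃ l, c = W l ∧ (∀ m, m ≠ l → W m ≤ N) ∧ ∀ m, m ≠ l → Z m ≤ N :=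
  line hL.fr (tr_of hB) (fun _ hz _ hg hf => full_of_conj hL hB hz hg hf) hcV hc4 hfix htriv hBc hBN hZJ hτc
    hτ1 hτN

end W

end Cfsg.Agent.Omega.OM.LowT.Line
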