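import Cfsg.Agent.Omega.OM.Lev.Low.TwoInst
import Cfsg.Agent.Omega.OM.LowT.SetU

/-!
# TORUS, `k = 2 = q`: the instance of `TwoRes.Res`, and the minimal parabolics over `S`, over a general top level

Port of `OM/Lev/Low/TwoInst.lean` to the frame `SWT.Ln P n`, `n : LV S`.

* `res_of` : `Res` from the block `TwoBlk.exists_one` and `v i ∈ c`, `v i' ∈ C(K)`;
* `gen_le` : a local `L ≥ S` is generated by elements normalising `Ω₁Z(lev S j)`, `lev S j ≤ K₀`, or centralising `z`, if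
  `K₀ ≤ O₂(R)` for all `R ∈ P*(S)` and `Ω₁Z(S) = ⟨z⟩`.
-/

set_option autoImplicit false
set_option linter.unusedSectionVars false

namespace Cfsg.Agent.Omega.OM.LowT.TwoInst

open Subgroup Cfsg Cfsg.Agent.ZN Cfsg.Agent.ZN.ChoiceBase
open Cfsg.Agent.ZN.ChoiceSit (Syl)
open Cfsg.Agent.Omega.MinPar (IsLoc IsPar IsParS)
open Cfsg.Agent.Omega.NO3S.EThree.Frame (Bg)
open Cfsg.Agent.Omega.NO3S.Level (lev lev_mono lev_isLev lev_le)
open Cfsg.Agent.Omega.OM.SWT (Ln LV)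
open Cfsg.Agent.Omega.OM.GLev
open Cfsg.Agent.Omega.OM.Lev.Low (TwoRes.Res YB)
open Cfsg.Agent.Omega.OM.Lev.Low.TwoInst (idx exists_out z_mem zc_S v_comm card_V)

universe u

variable {G : Type u} [Group G] [Finite G]

/-- **The instance of `Res`.** -/
theorem res_of {S : Sylow 2 G} {P : Subgroup G} {n : LV S} {L W Z C A : Fin 2 → Subgroup G}
    (hln : Ln P n L W Z C A 2) (hbg : Bg S P (SWT.BT n) (SWT.ZT n) L W Z C 2)
    {v : Fin 2 → G} (hv1 : ∀ i, v i ≠ 1) (hv : ∀ i, ∀ x, x ∈ Z i ↔ x = 1 ∨ x = v i) {M N₁ D K c : Subgroup G}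
    {j : ℕ} (hj : lev (S : Subgroup G) j ≤ n.K) (hpb : PB (LevB.BL (S : Subgroup G) j) K M N₁ D 4)
    (hBN : SWT.BT n ≤ normalizer ((⁅M, K⁆ : Subgroup G) : Set G))
    (hyb : YB (SWT.BT n) (zc (lev (S : Subgroup G) j))
      (fun _ : Fin 1 => zc (lev (S : Subgroup G) j) ⊓ centralizer (K : Set G)) (fun _ => c))
    (hc1 : c ≤ N₁) (hc2 : N₁ ≤ c ⊔ D) (hcD : c ⊓ D = ⊥) (hc4 : Nat.card c = 4) (hcV : c ≤ ⁅M, K⁆)
    {i i' : Fin 2} (hii : i ≠ i') (h1 : v i ∈ c) (h2 : v i' ∈ centralizer (K : Set G)) :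
    Lev.Low.TwoRes.Res S (SWT.BT n) (LevB.BL (S : Subgroup G) j) (zc (lev (S : Subgroup G) j)) M N₁ D K c
      (v 0 * v 1) (v i) (v i') where
  BS := hbg.BS
  SB := hbg.S_norm_B
  idx := fun a ha haB b hb hbB => idx hbg ha haB hb hbB
  ne := exists_out hbg
  SX := ((lev_isLev (S : Subgroup G) j).S_norm).trans (NO3S.Level.normalizer_le_zc _)
  X2 := NO3S.OneLine.zc_elem _
  B0eq := rfl
  B0B := BL_le_BT hj
  XB0 := by
    have h3 := LevB.zc_B S j
    rw [← h3]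
    exact fun x hx => (ChoiceBase.mem_zc.1 hx).1
  pb := hpb
  BN := hBN
  yb := hyb
  cN1 := hc1
  N1c := hc2
  cD := hcD
  c4 := hc4
  cV := hcV
  zz := z_mem hbg hv1 hv
  zS := fun x hx hx1 => zc_S hbg hv1 hv hx hx1
  ez := by
    have : ∀ a b : Fin 2, a ≠ b → (a = 0 ∧ b = 1) ∨ (a = 1 ∧ b = 0) := by decide
    rcases this i i' hii with ⟨rfl, rfl⟩ | ⟨rfl, rfl⟩
    · rfl
    · exact v_comm hbg hv1 hv
  z1c := h1
  z1n := hv1 i
  z2c := by
    refine mem_inf.2 ⟨?_, h2⟩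
    have h3 : v i' ∈ zl (S : Subgroup G) P := hbg.fr.ZV i' ((hv i' _).2 (Or.inr rfl))
    exact (hln.fr.VX.trans ((lev_isLev (S : Subgroup G) j).zc_le_zc hj n.lev.le)) h3
  z2n := hv1 i'
  X16 := (card_V hbg).trans (Subgroup.card_le_of_le
    (hln.fr.VX.trans ((lev_isLev (S : Subgroup G) j).zc_le_zc hj n.lev.le)))

/-- **The generation of a local group over `S`.** -/
theorem gen_le {S : Sylow 2 G} {L : Subgroup G} (hL : IsLoc (S : Subgroup G) L) {n : LV S} {j : ℕ}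
    (hj : lev (S : Subgroup G) j ≤ n.K)
    (hall : ∀ R, IsParS (S : Subgroup G) R → n.K ≤ o2 R) {z : G} (hz : z ∈ zc (S : Subgroup G))
    (hz1 : z ≠ 1) (hzS : ∀ x ∈ zc (S : Subgroup G), x ≠ 1 → x = z) :
    L ≤ closure {g | (g ∈ L ∧ g * z = z * g) ∨
      cj g (zc (lev (S : Subgroup G) j)) = zc (lev (S : Subgroup G) j)} := by
  have hlv := lev_isLev (S : Subgroup G) j
  refine hL.le_of_forall S ?_ fun Y hY hYL => ?_
  · intro g hg
    refine subset_closure (Or.inr (cj_eq_of_mem_normalizer ?_))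
    exact NO3S.Level.normalizer_le_zc _ (hlv.norm _ hlv.le le_rfl hg.2)
  · by_cases hZ : Y ≤ normalizer (zc (S : Subgroup G) : Set G)
    · intro g hg
      refine subset_closure (Or.inl ⟨hYL hg, ?_⟩)
      have h1 : g * z * g⁻¹ ∈ zc (S : Subgroup G) := (mem_normalizer_iff.1 (hZ hg) z).1 hz
      have h2 := hzS _ h1 fun e => hz1 (conj_eq_one_iff.1 e)
      exact mul_inv_eq_iff_eq_mul.1 h2
    · have h1 := hall Y ⟨hY, hZ⟩
      have h2 : Y ≤ normalizer (lev (S : Subgroup G) j : Set G) :=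
        hlv.le_norm_of_o2 (hj.trans h1) (hY.isLoc.o2_le S)
      exact fun g hg => subset_closure (Or.inr (cj_eq_of_mem_normalizer (NO3S.Level.normalizer_le_zc _ (h2 hg))))

end Cfsg.Agent.Omega.OM.LowT.TwoInst
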