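import Cfsg.Agent.Omega.OM.SWT.LowLev

/-!
# (LL): minimal parabolics of lower stage, over a general top level

Port of `OM/Lev/Low/LowMain.lean` to the frame `SWT.Ln P n`, `n : LV S`: `qv`, `zc_T_le`, `low_four`.
-/

set_option autoImplicit false
set_option linter.unusedSectionVars false

namespace Cfsg.Agent.Omega.OM.LowT

open Subgroup Cfsg Cfsg.Agent.ZN.ChoiceBase Cfsg.Agent.ZN.ChoiceSit
open Cfsg.Agent.ZN (jj zj bau zc zl o2)
open Cfsg.Agent.MinSimple.MinParabolic (IsMinPar)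
open Cfsg.Agent.Omega.OM.SWT (Ln LV ZT BT)
open Cfsg.Agent.Omega.OM.Lev.Low
open Cfsg.Agent.Omega.NO3S.Level (lev lev_mono lev_isLev Lev lev_le)

universe u

variable {G : Type u} [Group G] [Finite G] {ι : Type} {S : Sylow 2 G} {P : Subgroup G} {n : LV S}
  {L W Z C A : ι → Subgroup G} {q : ℕ}

/-- **`QV`** -/
theorem qv [Finite ι] (h : Ln P n L W Z C A q) {T : Subgroup G} (hT : IsPGroup 2 T) (hB : SWT.BT n ≤ T) {j : ℕ}
    (hj : lev (S : Subgroup G) j ≤ n.K) :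
    YB.QV T (zc (lev (S : Subgroup G) j)) (o2 P) (zl (S : Subgroup G) P) :=
  SWT.qv h hT hB (D := ⟨_, lev_isLev (S : Subgroup G) j⟩) hj

/-- `Ω₁Z(T) ≤ Z_J` -/
theorem zc_T_le {T : Subgroup G} (hT : IsPGroup 2 T) (hB : SWT.BT n ≤ T) : zc T ≤ SWT.ZT n :=
  SWT.zc_T_le n hT hB

/-- **(LL), `q > 2`.** -/
theorem low_four [Finite ι] (h : Ln P n L W Z C A q) (hq : 2 < q) {T Y : Subgroup G} (hT : Syl T Y)
    (hB : SWT.BT n ≤ T) (hP : IsMinPar T Y) (hc : Y ⊓ centralizer (o2 Y : Set G) ≤ o2 Y)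
    (hZ : ¬ Y ≤ centralizer (zc T : Set G)) {j : ℕ} (hj : lev (S : Subgroup G) j ≤ n.K) :
    lev (S : Subgroup G) j ≤ o2 Y :=
  SWT.low_lev h hq hT hB hP hc hZ hj

end Cfsg.Agent.Omega.OM.LowT
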