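import Cfsg.Agent.Omega.OM.Lev.Low.OneAll
import Cfsg.Agent.Omega.OM.Lev.Low.OneBlk
import Cfsg.Agent.Omega.OM.Lev.Low.LowMain
import Cfsg.Agent.Omega.OM.LowT.YKInst
import Cfsg.Agent.Omega.OM.LowT.Full
import Cfsg.Agent.Omega.OM.LowT.LinH
import Cfsg.Agent.Omega.OM.LowT.TorusK.Inst

/-!
# TORUS, `T = B`, `q = 2`, over a general top level: the block of a parabolic `R` of finite stage over `B = BT n`

Port of `OM/Lev/Low/Core.lean` from `SwapL.Ln` (top level `lev S n`) to `SWT.Ln` (top level `n : LV S`); instead of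
`lin_V` the hypothesis (LIN) is used (`LinH`).

`R` is a minimal parabolic over `B` of characteristic 2 which moves `Ω₁Z(B)`, `lev S m ≰ O₂(R)` for some `m` with
`lev S m ≤ K₀`.

* `Blk P n L W Z C A R j K N₁ c τ l` : `R` has one block `K`, of natural type over `𝔽₄`, and its torus line is `c = W l`;
  `K` centralises all `W m`, `m ≠ l`;
* `exists_blk_at`, `exists_blk` : it exists;
* `Blk.bk0` : its part `TorusK.Bk0`.
-/

set_option autoImplicit false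
set_option linter.unusedSectionVars false

namespace Cfsg.Agent.Omega.OM.LowT.Core

open Subgroup Cfsg Cfsg.Agent.ZN.ChoiceBase Cfsg.Agent.ZN.ChoiceSit
open Cfsg.Agent.ZN (jj zj bau zc zl o2)
open Cfsg.Agent.MinSimple.MinParabolic (IsMinPar)
open Cfsg.Agent.Omega.NO3S.OneLine (NatC natC_of)
open Cfsg.Agent.Omega.OM.GLev
open Cfsg.Agent.Omega.FFThm (NatKM SymKM)
open Cfsg.Agent.Omega.FrameFF (cv)
open Cfsg.Agent.Omega.OM.SWT (LV Ln ZT BT)
open Cfsg.Agent.Omega.NO3S.Level (lev lev_mono lev_isLev Lev lev_le)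
open Cfsg.Agent.Omega.NO3S.EThree.Frame (Bg)
open Cfsg.Agent.Omega.OM.Lev.Low (YB YK NB' Mv exists_stg)
open Cfsg.Agent.Omega.OM.Lev.Low.Core (exists_all)
open scoped commutatorElement

universe u

variable {G : Type u} [Group G] [Finite G]

/-- **The block of `R`.** -/
structure Blk {ι : Type} {S : Sylow 2 G} (P : Subgroup G) (n : LV S) (L W Z C A : ι → Subgroup G) (R : Subgroup G)
    (j : ℕ) (K N₁ c : Subgroup G) (τ : G) (l : ι) : Prop where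
  ln : Ln P n L W Z C A 2
  bg : Bg S P (BT n) (ZT n) L W Z C 2
  jn : lev (S : Subgroup G) j ≤ n.K
  syl : Syl (BT n) R
  min : IsMinPar (BT n) R
  char2 : R ⊓ centralizer (o2 R : Set G) ≤ o2 R
  low : ∀ i < j, lev (S : Subgroup G) i ≤ o2 R
  nlow : ¬ lev (S : Subgroup G) j ≤ o2 R
  mv : ¬ R ≤ centralizer (zc (BT n) : Set G)
  B0K : LevB.BL (S : Subgroup G) j ≤ K
  KR : K ≤ R
  pb : PB (LevB.BL (S : Subgroup G) j) K (zl (BT n) R) N₁ (cv (BT n) R) 4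
  RK : R ≤ BT n ⊔ K
  nK : BT n ≤ normalizer ((⁅zl (BT n) R, K⁆ : Subgroup G) : Set G)
  yb : YB (BT n) (zc (lev (S : Subgroup G) j))
    (fun _ : Fin 1 => zc (lev (S : Subgroup G) j) ⊓ centralizer (K : Set G)) (fun _ => c)
  cN1 : c ≤ N₁
  N1c : N₁ ≤ c ⊔ cv (BT n) R
  cD : c ⊓ cv (BT n) R = ⊥
  c4 : Nat.card c = 4
  τK : τ ∈ K
  τB0 : τ ∈ normalizer (LevB.BL (S : Subgroup G) j : Set G)
  τc : cj τ c = c
  τ1 : ∀ x ∈ c, τ * x * τ⁻¹ = x → x = 1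
  τD : ∀ v ∈ zl (BT n) R, τ * v * τ⁻¹ * v⁻¹ ∈ cv (BT n) R → v ∈ cv (BT n) R
  cc : c ≤ ⁅⁅zl (BT n) R, K⁆, LevB.BL (S : Subgroup G) j⁆
  line : ∀ y ∈ R, ∀ v ∈ N₁, v ∉ cv (BT n) R → y * v * y⁻¹ ∈ N₁ → cj y N₁ = N₁
  act : ∀ t ∈ BT n, ∀ k ∈ K, ∃ k' ∈ K, ∀ v ∈ zl (BT n) R,
    t * k * t⁻¹ * v * (t * k * t⁻¹)⁻¹ = k' * v * k'⁻¹
  /-- `B` normalises `c` and `C_X(K)` -/
  fix : ∀ b ∈ BT n, cj b (zc (lev (S : Subgroup G) j) ⊓ centralizer (K : Set G)) =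
    zc (lev (S : Subgroup G) j) ⊓ centralizer (K : Set G) ∧ cj b c = c
  /-- (L) -/
  cW : c = W l
  WK : ∀ m, m ≠ l → W m ≤ centralizer (K : Set G)

theorem Blk.bk0 {ι : Type} {S : Sylow 2 G} {P : Subgroup G} {n : LV S} {L W Z C A : ι → Subgroup G}
    {R : Subgroup G} {j : ℕ} {K N₁ c : Subgroup G} {τ : G} {l : ι} (h : Blk P n L W Z C A R j K N₁ c τ l) :
    TorusK.Bk0 P n L W Z C A R j K N₁ c τ l :=
  ⟨h.ln, h.bg, h.jn, h.syl, h.low, h.KR, h.pb, h.nK, h.act, h.cN1, h.cD, h.τK, h.τB0, h.τc, h.τ1, fun b hb => (h.fix b hb).1, h.cW,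
    h.WK⟩

/-- a finite field of characteristic 2 with more than 2 elements has at least 4 -/
theorem four_le {F : Type} [Field F] [Finite F] [CharP F 2] (h : 2 < Nat.card F) : 4 ≤ Nat.card F := by
  have := Fintype.ofFinite F
  obtain ⟨m, -, hm⟩ := FiniteField.card F 2
  rw [Nat.card_eq_fintype_card] at h ⊢
  rw [hm] at h ⊢
  have h1 : (m : ℕ) ≠ 1 := by
    intro e
    rw [e] at h
    omega
  have h2 : 2 ≤ (m : ℕ) := by
    have := m.pos
    omega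
  calc 4 = 2 ^ 2 := rfl
    _ ≤ 2 ^ (m : ℕ) := Nat.pow_le_pow_right (by norm_num) h2

/-- the field of `exists_out` has at least 4 elements -/
theorem card_out {ι : Type} {S : Sylow 2 G} {P : Subgroup G} {n : LV S} {L W Z C A : ι → Subgroup G}
    {T Y : Subgroup G} {j : ℕ} {F : Type} [Field F] [Finite F] [CharP F 2] {k : ℕ}
    {M : NatC F T Y (zl T Y) (cv T Y) k} {K Nn c : Fin k → Subgroup G} (h : OutN P n L W Z C A T Y j M K Nn c)
    (hk : 0 < k) : 4 ≤ Nat.card F := by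
  apply four_le
  rw [← h.nb.co.card ⟨0, hk⟩]
  obtain ⟨-, -, a, ha, -, ha1, -, -, a', ha', -, ha1', hne⟩ := h.wide ⟨0, hk⟩
  have h1 : ({1, a, a'} : Set G).ncard = 3 := by
    rw [Set.ncard_eq_three]
    exact ⟨1, a, a', fun e => ha1 e.symm, fun e => ha1' e.symm, hne, rfl⟩
  have h2 : ({1, a, a'} : Set G) ⊆ (c ⟨0, hk⟩ : Set G) := by
    rintro x (rfl | rfl | rfl)
    · exact one_mem _
    · exact ha
    · exact ha'
  have h3 := Set.ncard_le_ncard h2 (Set.toFinite _)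
  rw [h1, ← Nat.card_coe_set_eq] at h3
  exact lt_of_lt_of_le (by norm_num) h3

/-- **(L)** for a line of `YB` on `Ω₁Z(lev S j)`, `lev S j ≤ K₀`. -/
theorem line_yb' {ι : Type} [Finite ι] {S : Sylow 2 G} {P : Subgroup G} {n : LV S} {L W Z C A : ι → Subgroup G}
    (hL : Ln P n L W Z C A 2) (hB : Bg S P (BT n) (ZT n) L W Z C 2) {j : ℕ} (hj : lev (S : Subgroup G) j ≤ n.K)
    {Λ : Type*} {N c : Λ → Subgroup G} (hy : YB (BT n) (zc (lev (S : Subgroup G) j)) N c) {l : Λ}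
    (hfix : ∀ b ∈ BT n, Mv N c b l l) (hcV : c l ≤ zl (S : Subgroup G) P)
    (hc4 : Nat.card (c l) = 4) (hZJ : ¬ ZT n ≤ N l) {τ : G}
    (hτc : ∀ x ∈ c l, τ * x * τ⁻¹ ∈ c l) (hτ1 : ∀ x ∈ c l, τ * x * τ⁻¹ = x → x = 1)
    (hτN : ∀ x ∈ N l, τ * x * τ⁻¹ = x) :
    ∃ i, c l = W i ∧ (∀ m, m ≠ i → W m ≤ N l) ∧ ∀ m, m ≠ i → Z m ≤ N l := by
  refine Line.line' hL hB hcV hc4 (fun x hx => hy.fix l x ?_) (hy.triv l) (fun b hb x hx => ?_) (fun b hb x hx => ?_)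
    hZJ hτc hτ1 hτN
  · exact (lev_isLev (S : Subgroup G) j).zc_le_zc hj n.lev.le hx
  · have h1 := (hfix b hb).2
    have h2 : b * x * b⁻¹ ∈ cj b (c l) := ⟨x, hx, rfl⟩
    rwa [h1] at h2
  · have h1 := (hfix b hb).1
    have h2 : b * x * b⁻¹ ∈ cj b (N l) := ⟨x, hx, rfl⟩
    rwa [h1] at h2

/-- **The block of `R` exists**, the stage `j` given. -/
theorem exists_blk_at {ι : Type} [Finite ι] {S : Sylow 2 G} {P : Subgroup G} {n : LV S}
    {L W Z C A : ι → Subgroup G} (hln : Ln P n L W Z C A 2)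
    (hbg : Bg S P (BT n) (ZT n) L W Z C 2) {R : Subgroup G}
    (hP : IsMinPar (BT n) R) (hT : Syl (BT n) R)
    (hc : R ⊓ centralizer (o2 R : Set G) ≤ o2 R) {j : ℕ} (hj : lev (S : Subgroup G) j ≤ n.K)
    (hlow : ∀ i < j, lev (S : Subgroup G) i ≤ o2 R) (hnj : ¬ lev (S : Subgroup G) j ≤ o2 R)
    (hZ : ¬ R ≤ centralizer (zc (BT n) : Set G)) (hl : LinH S P (BT n) R j) :
    ∃ (K N₁ c : Subgroup G) (τ : G) (l : ι), Blk P n L W Z C A R j K N₁ c τ l := by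
  obtain ⟨X, AA', hge, hbz, hex, F, _, _, _, k, hk, N, K, Nn, c, hout⟩ :=
    exists_out hln hT le_rfl hP hc hZ hj hlow hnj
  obtain ⟨hk1, hF⟩ := hl.one F k hk N (card_out hout hk)
  clear hout K Nn c
  subst hk1
  -- the block
  obtain ⟨K, N₁, c, τ, h1, h2, h3, h4, h5, h6, h7, h8, h9, h10, h11, h12, h13, h14, h15, h16, h17, h18, h19⟩ :=
    exists_all hge hbz N hex (by rw [hF]; norm_num)
  rw [hF] at h3 h10
  have hcV : c ≤ zl (S : Subgroup G) P := hl.le K N₁ c τ h3 h2 h7 h11 h12 h13 h14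
  have hzT : ¬ zc (BT n) ≤ zc (lev (S : Subgroup G) j) ⊓ centralizer (K : Set G) := by
    intro hle
    refine hZ (h4.trans (sup_le (NO3S.Level.le_centralizer_zc _) ?_))
    exact le_centralizer_iff.1 (hle.trans inf_le_right)
  have hfix : ∀ b ∈ BT n, Mv (fun _ : Fin 1 => zc (lev (S : Subgroup G) j) ⊓ centralizer (K : Set G)) (fun _ => c)
      b 0 0 := by
    intro b hb
    obtain ⟨i, hi⟩ := h6.perm b hb 0
    rwa [Subsingleton.elim i 0] at hi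
  have hτX : ∀ x ∈ c, τ * x * τ⁻¹ ∈ c := fun x hx => by
    have h20 : τ * x * τ⁻¹ ∈ cj τ c := ⟨x, hx, rfl⟩
    rwa [h13] at h20
  have hZJ : ¬ ZT n ≤ zc (lev (S : Subgroup G) j) ⊓ centralizer (K : Set G) := fun h =>
    hzT ((SWT.zc_T_le n hT.2.1 le_rfl).trans h)
  obtain ⟨l, hcl, hW, -⟩ := line_yb' hln hbg hj h6 (l := 0) hfix hcV h10 hZJ hτX h14
    (fun x hx => by
      have h20 := mem_centralizer_iff.1 (mem_inf.1 hx).2 τ h11
      rw [h20]; group)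
  exact ⟨K, N₁, c, τ, l, ⟨hln, hbg, hj, hT, hP, hc, hlow, hnj, hZ, h1, h2, h3, h4, h5, h6, h7, h8, h9, h10, h11,
    h12, h13, h14, h15, h16, h17, h18, hfix, hcl, fun m hm => (hW m hm).trans inf_le_right⟩⟩

/-- **The block of `R` exists.** -/
theorem exists_blk {ι : Type} [Finite ι] {S : Sylow 2 G} {P : Subgroup G} {n : LV S}
    {L W Z C A : ι → Subgroup G} (hln : Ln P n L W Z C A 2)
    (hbg : Bg S P (BT n) (ZT n) L W Z C 2) {R : Subgroup G}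
    (hP : IsMinPar (BT n) R) (hT : Syl (BT n) R)
    (hc : R ⊓ centralizer (o2 R : Set G) ≤ o2 R) {m : ℕ} (hm : lev (S : Subgroup G) m ≤ n.K)
    (hn : ¬ lev (S : Subgroup G) m ≤ o2 R) (hZ : ¬ R ≤ centralizer (zc (BT n) : Set G))
    (hlin : ∀ j, lev (S : Subgroup G) j ≤ n.K → (∀ i < j, lev (S : Subgroup G) i ≤ o2 R) →
      ¬ lev (S : Subgroup G) j ≤ o2 R → LinH S P (BT n) R j) :
    ∃ (j : ℕ) (K N₁ c : Subgroup G) (τ : G) (l : ι), Blk P n L W Z C A R j K N₁ c τ l := by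
  obtain ⟨j, hjm, hlow, hnj⟩ := exists_stg (S : Subgroup G) hn
  have hj : lev (S : Subgroup G) j ≤ n.K := (lev_mono _ hjm).trans hm
  exact ⟨j, exists_blk_at hln hbg hP hT hc hj hlow hnj hZ (hlin j hj hlow hnj)⟩

end Cfsg.Agent.Omega.OM.LowT.Core
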