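import Cfsg.Agent.Omega.OM.LowT.TorusK.Inst
import Cfsg.Agent.Omega.OM.LowT.TorusK.LocIn
import Cfsg.Agent.Omega.OM.Lev.Low.PlugE
import Cfsg.Agent.Omega.OM.Lev.Low.TorusK.LocIn
import Cfsg.Agent.Omega.Node.MulX

/-!
# The torus configuration over a general top level, `q = 2`, `k ≥ 3`

Port of `OM/Lev/Low/PlugE.lean` from `SwapL.Ln` (top level `lev S n`) to `SWT.Ln` (top level `n : LV S`), and its form
over the case (L) of GammaFF.

* `loc_of` : the local fields `Loc`;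
* **`false_of_blk`** : no `Bk0` over `SWT.Ln` + `Bg`, from the torus theorem `TorusOf`;
* `topL`, `ZT_top`, `BT_top`, `ln_top`, `bg_top` : `SWT.Ln`, `Bg` at the top level `O₂(P)` from `MulL`;
* **`false_of_blkL`** : the same over the case (L).
-/

set_option autoImplicit false
set_option linter.unusedSectionVars false

namespace Cfsg.Agent.Omega.OM.LowT.PlugE

open Subgroup Cfsg Cfsg.Agent.ZN.ChoiceBase Cfsg.Agent.ZN.ChoiceSit
open Cfsg.Agent.ZN (jj zj bau zc zl o2)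
open Cfsg.Agent.MinSimple.MinParabolic (IsMinPar)
open Cfsg.Agent.Omega.OM.SWT (LV Ln ZT BT)
open Cfsg.Agent.Omega.NO3S.Level (lev lev_mono lev_isLev)
open Cfsg.Agent.Omega.NO3S.EThree.Frame (Bg)
open Cfsg.Agent.Omega.MinPar (IsParS IsLoc)
open Cfsg.Agent.Omega.OM.Lev.Low.Line (Full full_unique)
open Cfsg.Agent.Omega.OM.Lev.Low.TorusK (TK BK NA Loc stM stY)
open Cfsg.Agent.Omega.OM.Lev.Low.PlugE (TorusOf)
open Cfsg.Agent.Omega.OM.LowT.TorusK (tk_of bk_of Bk0)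
open Cfsg.Agent.Omega.Node.MulX (MulL)

universe u

section loc

variable {G : Type u} [Group G] [Finite G] {ι : Type} [Finite ι] {S : Sylow 2 G} {P : Subgroup G} {n : LV S}
  {L W Z C A : ι → Subgroup G}

/-- **The local fields.** -/
theorem loc_of (hL : Ln P n L W Z C A 2) (hB : Bg S P (BT n) (ZT n) L W Z C 2) (h3 : ∀ l m : ι, ∃ r, r ≠ l ∧ r ≠ m)
    (hall : ∀ R, IsParS (S : Subgroup G) R → n.K ≤ o2 R) {j : ℕ} (hj : lev (S : Subgroup G) j ≤ n.K) {z : G}
    (hz : z ∈ ZT n) (hzC : ∀ i, z ∉ C i) :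
    Loc (S : Subgroup G) (BT n) (ZT n) (LevB.BL (S : Subgroup G) j) (zc (lev (S : Subgroup G) j)) Z z where
  syl := TorusK.LocIn.syl hL hB
  loc1 := TorusK.LocIn.loc1 hB
  loc2 := by
    intro l m hlm
    obtain ⟨E, h1, h2, h4, h5⟩ := TorusK.LocIn.loc2 hB h3 l m hlm
    exact ⟨E, h1, fun e he hc => ⟨h2 he, mem_centralizer_iff.2 fun x hx => (hc x hx).symm⟩, h4, h5⟩
  fact := by
    obtain ⟨z', hz', hf, hz1, hzS, hu⟩ := TorusK.LocIn.exists_z hL hB
    obtain rfl : z = z' := full_unique hL.fr hz hz' hzC hf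
    rintro H hH ⟨U, hU1, hU2, hU3⟩
    exact TorusK.LocIn.fact' S (Lev.Low.TorusK.LocIn.isLoc_of S hH hU1 hU2 hU3) hj hall hzS hz1 hu

end loc

/-- `NA` from `Bk0` -/
theorem na_of {G : Type u} [Group G] [Finite G] {ι : Type} {S : Sylow 2 G} {P : Subgroup G} {n : LV S}
    {L W Z C A : ι → Subgroup G} {R : Subgroup G} {j : ℕ} {K N₁ c : Subgroup G} {τ : G} {l : ι}
    (h : Bk0 P n L W Z C A R j K N₁ c τ l) : NA (BT n) K (zl (BT n) R) := ⟨h.nK, h.act⟩

/-- **The torus configuration is impossible**, `k ≥ 3`. -/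
theorem false_of_blk (hT : TorusOf.{u}) {G : Type u} [Group G] [Finite G] {k : ℕ} (hk : 3 ≤ k) {S : Sylow 2 G}
    {P : Subgroup G} {n : LV S} {L W Z C A : Fin k → Subgroup G}
    (hall : ∀ R, IsParS (S : Subgroup G) R → n.K ≤ o2 R) {R : Subgroup G} {j : ℕ} {K N₁ c : Subgroup G} {τ : G}
    {l : Fin k} (hb : Bk0 P n L W Z C A R j K N₁ c τ l) : False := by
  obtain ⟨z, hz, hzf⟩ := Lev.Low.Line.exists_full hb.ln.fr
  exact hT G k _ _ _ _ _ _ _ _ _ _ _ _ _ _ _ _ _ _ _ _ _ hk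
    (tk_of hb.ln hb.bg hb.jn hz hzf
      (loc_of hb.ln hb.bg (fun l m => Lev.Low.TorusK.LocIn.third hk l m) hall hb.jn hz hzf)) (bk_of hb) (na_of hb)

/-- the top level `O₂(P)` of the case (L) -/
def topL {G : Type u} [Group G] [Finite G] {S : Sylow 2 G} {P : Subgroup G} (h : NO3S.Level.CaseL S P) : LV S :=
  ⟨o2 P, h.levQ⟩

section mul

variable {G : Type u} [Group G] [Finite G] {S : Sylow 2 G} {P B ZJ : Subgroup G} {k : ℕ}
  {L W Z C A : Fin k → Subgroup G} {q : ℕ} (h : MulL S P B ZJ L W Z C A q)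

theorem ZT_top : ZT (topL h.cl) = ZJ := h.eZ.symm

theorem BT_top : BT (topL h.cl) = B := h.eqB.symm

/-- the frame `Ln` of the case (L) -/
theorem ln_top (hk : 2 ≤ k) : Ln P (topL h.cl) L W Z C A q where
  hyp := h.cl.hypN
  le := le_rfl
  fr := by
    rw [BT_top h, ZT_top h]
    show OM.Lev.Uni.FrL B (o2 P) (zl (S : Subgroup G) P) (zc (o2 P)) ZJ L W Z C A q
    rw [h.cl.zc_eq]
    exact h.fr
  two := fun i => by
    have : Nontrivial (Fin k) := Fin.nontrivial_iff_two_le.2 hk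
    exact exists_ne i

theorem bg_top : Bg S P (BT (topL h.cl)) (ZT (topL h.cl)) L W Z C q := by
  rw [BT_top h, ZT_top h]
  exact h.bg

end mul

/-- **The torus configuration is impossible over the case (L)**, `k ≥ 3`. -/
theorem false_of_blkL (hT : TorusOf.{u}) {G : Type u} [Group G] [Finite G] {S : Sylow 2 G} {P : Subgroup G} {k : ℕ}
    (hk : 3 ≤ k) {L W Z C A : Fin k → Subgroup G} (h : NO3S.Level.CaseL S P) {Y : Subgroup G} {j : ℕ}
    {K N₁ c : Subgroup G} {τ : G} {l : Fin k} (hb : Bk0 P (topL h) L W Z C A Y j K N₁ c τ l) : False :=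
  false_of_blk hT hk (fun _ hR => h.o2_le hR) hb

/-- the finite stages lie in `O₂(P)` -/
theorem lev_le_top {G : Type u} [Group G] [Finite G] {S : Sylow 2 G} {P : Subgroup G} (h : NO3S.Level.CaseL S P)
    (m : ℕ) : lev (S : Subgroup G) m ≤ (topL h).K := (NO3S.Level.lev_le_lim _ m).trans h.lim_le

end Cfsg.Agent.Omega.OM.LowT.PlugE
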