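import Cfsg.Agent.Omega.OM.LowT.TwoMain
import Cfsg.Agent.Omega.NO3S.Sym.IdFive

/-!
# `V_P` = even subsets of five letters, over a general top level: no minimal parabolic of finite stage over `T` moves
`Ω₁(Z(T))`

Port of `NO3S/Sym/LowFive.lean` (helper604) to the frame `SWT.Ln P n`, `n : LV S`, `ι = Fin 2`; `B = T = Std.T S p`.

* `line_five`, `res_five`, `exists_res`, `not_loc`, `tor_false` : over the torus block `Tor` with its line `c ≤ V_P`.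
-/

set_option autoImplicit false
set_option linter.unusedSectionVars false

namespace Cfsg.Agent.Omega.OM.LowT.Five

open Subgroup Cfsg Cfsg.Agent.ZN Cfsg.Agent.ZN.ChoiceBase
open Cfsg.Agent.ZN.ChoiceSit (Syl)
open Cfsg.Agent.MinSimple.MinParabolic (IsMinPar)
open Cfsg.Agent.Omega.MinPar (IsLoc IsPar IsParS)
open Cfsg.Agent.Omega.NO3S.Level (lev lev_mono lev_isLev lev_le)
open Cfsg.Agent.Omega.OM
open Cfsg.Agent.Omega.OM.SWT (Ln LV)
open Cfsg.Agent.Omega.OM.GLev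
open Cfsg.Agent.Omega.OM.Lev.Uni (FrL)
open Cfsg.Agent.Omega.OM.Lev.Low
open Cfsg.Agent.Omega.FrameFF (cv)
open Cfsg.Agent.Omega.SQ1.Bau (card_sup_comm)
open Cfsg.Agent.Omega.NTwo (Std nn aa)
open Cfsg.Agent.Omega.NO3S.Sym
open Cfsg.Agent.Omega.NO3S.Sym.Light (FiveL)
open Cfsg.Agent.Omega.NO3S.Sym.LowFive (Id5 idx cj_W exists_pair heavy_light mem_Z_of)
open scoped commutatorElement

universe u

variable {G : Type u} [Group G] [Finite G] {S : Sylow 2 G} {P : Subgroup G} {n : LV S}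
  {L W Z C A : Fin 2 → Subgroup G} {R : Subgroup G} {j : ℕ} {K N₁ c : Subgroup G} {τ : G} {p : Fin 5 → G}

/-- **The line of the torus block is `W l`.** -/
theorem line_five (h : FiveL S P p) (hid : Id5 (S : Subgroup G) (SWT.BT n) W Z p)
    (ht : TwoMain.Tor P n L W Z C A R j K N₁ c τ)
    (hZ : ¬ R ≤ centralizer (zc (SWT.BT n) : Set G)) (hV : c ≤ zl (S : Subgroup G) P) :
    ∃ i, c = W i ∧ ∀ m, m ≠ i → Z m ≤ centralizer (K : Set G) := by
  have hyb := ht.inp.yk.yb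
  have hfix : ∀ b ∈ SWT.BT n, Mv (fun _ : Fin 1 => zc (lev (S : Subgroup G) j) ⊓ centralizer (K : Set G))
      (fun _ => c) b 0 0 := fun b hb => by
    obtain ⟨m, hm⟩ := hyb.perm b hb 0
    rwa [Subsingleton.elim m 0] at hm
  obtain ⟨i, h1, h2⟩ := LineFive.line5 ht.inp.ln.fr (c := c) (N := zc (lev (S : Subgroup G) j) ⊓ centralizer (K : Set G))
    (τ := τ)
    (fun l z hz hz1 w hw hwZ b hb hbC hb1 g => by
      obtain ⟨m, hlm⟩ : ∃ m, l ≠ m := by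
        have key : ∀ l : Fin 2, ∃ m, l ≠ m := by decide
        exact key l
      exact heavy_light h hid hlm hz hz1 hw hwZ (mem_Z_of ht.inp.ln.fr hlm hb hbC) hb1 g)
    hV ht.c4
    (fun x hx => hyb.fix 0 x ((lev_isLev (S : Subgroup G) j).zc_le_zc ht.inp.jn n.lev.le hx))
    (hyb.triv 0)
    (fun b hb x hx => by
      have h3 := (hfix b hb).2
      have h4 : b * x * b⁻¹ ∈ cj b c := ⟨x, hx, rfl⟩
      rwa [h3] at h4)
    (fun b hb x hx => by
      have h3 := (hfix b hb).1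
      have h4 : b * x * b⁻¹ ∈ cj b (zc (lev (S : Subgroup G) j) ⊓ centralizer (K : Set G)) := ⟨x, hx, rfl⟩
      rwa [h3] at h4)
    (fun hle => hZ ((ht.inp.yk.sup 0).trans (sup_le (NO3S.Level.le_centralizer_zc _) (by
      rw [ht.inp.ln.fr.zcB]
      exact le_centralizer_iff.1 (hle.trans inf_le_right)))))
    (fun x hx => by
      have h4 : τ * x * τ⁻¹ ∈ cj τ c := ⟨x, hx, rfl⟩
      rwa [ht.τc] at h4) ht.τ1
  exact ⟨i, h1, fun m hm => (h2 m hm).trans inf_le_right⟩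

/-- `|V_P| ≥ 16` -/
theorem card_V (hln : Ln P n L W Z C A 2) : 16 ≤ Nat.card (zl (S : Subgroup G) P) := by
  have hW : ∀ i, Nat.card (W i) = 4 := fun i => by
    rw [(hln.fr.blk i).card, hln.fr.cardZ i]
  have h01 : W 0 ⊓ W 1 = ⊥ := by
    rw [eq_bot_iff, ← hln.fr.dir 0]
    exact inf_le_inf_left _ (hln.fr.WjC 0 1 (by decide))
  have h1 := card_sup_comm (A := W 0) (B := W 1) fun a ha b hb => hln.fr.Vc (hln.fr.WV 0 ha) (hln.fr.WV 1 hb)
  rw [h01, Subgroup.card_bot, mul_one, hW, hW] at h1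
  calc 16 = Nat.card ↥(W 0 ⊔ W 1) := h1.symm
    _ ≤ _ := Subgroup.card_le_of_le (sup_le (hln.fr.WV 0) (hln.fr.WV 1))

/-- **The instance of `Res`.** -/
theorem res_five (h : FiveL S P p) (hid : Id5 (S : Subgroup G) (SWT.BT n) W Z p)
    (hln : Ln P n L W Z C A 2) {M N₁ D K c : Subgroup G}
    {j : ℕ} (hj : lev (S : Subgroup G) j ≤ n.K) (hpb : PB (LevB.BL (S : Subgroup G) j) K M N₁ D 4)
    (hBN : SWT.BT n ≤ normalizer ((⁅M, K⁆ : Subgroup G) : Set G))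
    (hyb : YB (SWT.BT n) (zc (lev (S : Subgroup G) j))
      (fun _ : Fin 1 => zc (lev (S : Subgroup G) j) ⊓ centralizer (K : Set G)) (fun _ => c))
    (hc1 : c ≤ N₁) (hc2 : N₁ ≤ c ⊔ D) (hcD : c ⊓ D = ⊥) (hc4 : Nat.card c = 4) (hcV : c ≤ ⁅M, K⁆)
    {z1 z2 : G} (hz1 : z1 ≠ 1) (hz2 : z2 ≠ 1) (e : p 4 = z1 * z2) (h1 : z1 ∈ c) (h2V : z2 ∈ zl (S : Subgroup G) P)
    (h2 : z2 ∈ centralizer (K : Set G)) :
    TwoRes.Res S (SWT.BT n) (LevB.BL (S : Subgroup G) j) (zc (lev (S : Subgroup G) j)) M N₁ D K c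
      (p 4) z1 z2 where
  BS := (SWT.lb n).BS
  SB := by rw [hid.BT]; exact h.std.le_norm_T
  idx := fun a ha haB b hb hbB => idx h hid ha haB hb hbB
  ne := NO3S.Sym.LowFive.exists_out h hid
  SX := ((lev_isLev (S : Subgroup G) j).S_norm).trans (NO3S.Level.normalizer_le_zc _)
  X2 := NO3S.OneLine.zc_elem _
  B0eq := rfl
  B0B := BL_le_BT hj
  XB0 := by
    have h3 := LevB.zc_B S j
    rw [← h3]
    exact fun x hx => (ChoiceBase.mem_zc.1 hx).1
  pb := hpb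
  BN := hBN
  yb := hyb
  cN1 := hc1
  N1c := hc2
  cD := hcD
  c4 := hc4
  cV := hcV
  zz := ChoiceBase.mem_zc.2 ⟨h.std.mem 4, by rw [pow_two]; exact h.std.sq 4,
    fun s hs => mul_inv_eq_iff_eq_mul.1 (h.std.fix s hs)⟩
  zS := fun x hx hx1 => (h.std.zc4 x hx).resolve_left hx1
  ez := e
  z1c := h1
  z1n := hz1
  z2c := mem_inf.2 ⟨(hln.fr.VX.trans ((lev_isLev (S : Subgroup G) j).zc_le_zc hj n.lev.le)) h2V, h2⟩
  z2n := hz2
  X16 := (card_V hln).trans (Subgroup.card_le_of_le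
    (hln.fr.VX.trans ((lev_isLev (S : Subgroup G) j).zc_le_zc hj n.lev.le)))

/-- **`Res`, and (D)** -/
theorem exists_res (h : FiveL S P p) (hid : Id5 (S : Subgroup G) (SWT.BT n) W Z p)
    (ht : TwoMain.Tor P n L W Z C A R j K N₁ c τ)
    (hZ : ¬ R ≤ centralizer (zc (SWT.BT n) : Set G)) (hV : c ≤ zl (S : Subgroup G) P) :
    ∃ z1 z2, TwoRes.Res S (SWT.BT n) (LevB.BL (S : Subgroup G) j) (zc (lev (S : Subgroup G) j))
        (zl (SWT.BT n) R) N₁ (cv (SWT.BT n) R) K c (p 4) z1 z2 ∧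
      ∀ t ∈ (S : Subgroup G), t ∉ SWT.BT n →
        cj t ⁅(⁅zl (SWT.BT n) R, K⁆ : Subgroup G), LevB.BL (S : Subgroup G) j⁆ ≠
          ⁅(⁅zl (SWT.BT n) R, K⁆ : Subgroup G), LevB.BL (S : Subgroup G) j⁆ := by
  obtain ⟨i, hcW, hZm⟩ := line_five h hid ht hZ hV
  obtain ⟨i', hii⟩ : ∃ i', i ≠ i' := by
    have h5 : ∀ i : Fin 2, ∃ i', i ≠ i' := by decide
    exact h5 i
  obtain ⟨z1, hz1, z2, hz2, hz11, hz21, e⟩ := exists_pair h hid hii
  have hcl : c ≤ ⁅zl (SWT.BT n) R, K⁆ := by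
    refine ht.cl.trans ?_
    rw [commutator_le]
    intro x hx b hb
    have h1 := mul_mem hx ((mem_normalizer_iff.1 (ht.pb.LV (ht.pb.BL hb)) _).1 (inv_mem hx))
    have e : x * (b * x⁻¹ * b⁻¹) = ⁅x, b⁆ := by rw [commutatorElement_def]; group
    rwa [e] at h1
  refine ⟨z1, z2, res_five h hid ht.inp.ln ht.inp.jn ht.pb ht.TV ht.inp.yk.yb ht.cN1 ht.N1c ht.cD ht.c4 hcl
    hz11 hz21 e ?_ (ht.inp.ln.fr.ZV i' hz2) (hZm i' (Ne.symm hii) hz2), fun t hs htB => ?_⟩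
  · rw [hcW]
    exact (ht.inp.ln.fr.blk i).ZV hz1
  · intro he
    have hne := ht.inp.ln.fr.Ane i'
    push Not at hne
    obtain ⟨a, ha, w, hw, hne⟩ := hne
    apply hne
    have haB := ht.inp.ln.fr.AB i' ha
    refine ht.hat a haB (fun x hx => ht.inp.ln.fr.AC i' a ha x (ht.inp.ln.fr.WjC i' i (Ne.symm hii) (hcW ▸ hx))) w ?_
    rw [← he]
    refine cj_mono t ht.cl ?_
    rw [hcW, cj_W h hid hs htB hii]
    exact hw

/-- **`⟨K, S⟩` is not local.** -/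
theorem not_loc (h : FiveL S P p) (hid : Id5 (S : Subgroup G) (SWT.BT n) W Z p)
    (ht : TwoMain.Tor P n L W Z C A R j K N₁ c τ)
    (hall : ∀ R, IsParS (S : Subgroup G) R → n.K ≤ o2 R)
    (hZ : ¬ R ≤ centralizer (zc (SWT.BT n) : Set G)) (hV : c ≤ zl (S : Subgroup G) P) :
    ¬ IsLoc (S : Subgroup G) (K ⊔ (S : Subgroup G)) := by
  intro hL
  obtain ⟨z1, z2, hR, hD⟩ := exists_res h hid ht hZ hV
  have hz1 : p 4 ≠ 1 := h.std.ne 4
  exact TwoEnd.false_of hR (H := R) ht.inp.syl.1 (ht.inp.yk.KY 0) (ht.inp.yk.sup 0)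
    (MinSimple.VModule.le_normalizer_zl _ R) ht.line ht.τK ht.τc ht.τD ht.K_norm ht.inp.ln.hyp.ctx.char2 hL hD
    (LowT.TwoInst.gen_le hL ht.inp.jn hall hR.zz hz1 hR.zS)

/-- **The torus block does not exist.** -/
theorem tor_false (h : FiveL S P p) (hid : Id5 (S : Subgroup G) (SWT.BT n) W Z p)
    (ht : TwoMain.Tor P n L W Z C A R j K N₁ c τ)
    (hall : ∀ R, IsParS (S : Subgroup G) R → n.K ≤ o2 R)
    (hZ : ¬ R ≤ centralizer (zc (SWT.BT n) : Set G)) (hV : c ≤ zl (S : Subgroup G) P) : False := by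
  obtain ⟨z1, z2, hR, hD⟩ := exists_res h hid ht hZ hV
  exact not_loc h hid ht hall hZ hV (hR.isLoc hD)

end Cfsg.Agent.Omega.OM.LowT.Five
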