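import Cfsg.Agent.Omega.OM.LowT.LowTwo
import Cfsg.Agent.Omega.OM.LowT.LinH
import Cfsg.Agent.Omega.OM.LowT.LinTop
import Cfsg.Agent.Omega.OM.Lev.Low.Sub

/-!
# LIN (helper388 #25947), the last step: `c l ≤ V_P` for all `l` gives `LinH S P B R j`

* `fix_all` : every element of `A i` fixes `l` if `c l ≤ V`, `2 < |c l|` (any 2-group `T ≥ B`);
* `B_gen` : `B = Q ∏ A i` on `V`;
* `one_line` : over `T = B` there is one `l`;
* `linH_of` : **`LinH` from the two outputs of the core**: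
  (core) `c l ≤ V_P` for all `l`, (F) `N_R(B_j)` normalises `V_P ∩ zl B R`.
-/

set_option autoImplicit false
set_option linter.unusedSectionVars false

namespace Cfsg.Agent.Omega.OM.LowT.LinEnd

open Subgroup Cfsg Cfsg.Agent.ZN.ChoiceBase Cfsg.Agent.ZN.ChoiceSit
open Cfsg.Agent.ZN (jj zj bau zc zl o2)
open Cfsg.Agent.Omega.OM.Lev.Low
open Cfsg.Agent.Omega.OM.Lev.Low.YB
open Cfsg.Agent.Omega.OM.Lev.Uni (FrL)

universe u

variable {G : Type u} [Group G] [Finite G] {ι : Type*} {Λ : Type*}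
  {B Q V X' X ZJ T : Subgroup G} {L W Z C A : ι → Subgroup G} {N c : Λ → Subgroup G}

/-- every element of `A i` fixes `l` -/
theorem fix_all (h : FrL B Q V X' ZJ L W Z C A 2) (hB : B ≤ T) (hy : YB T X N c) {l : Λ} (hc : c l ≤ V)
    (h2 : 2 < Nat.card (c l)) {i : ι} {a : G} (ha : a ∈ A i) : Mv N c a l l := by
  obtain ⟨m, hm⟩ := hy.perm a (hB (h.AB i ha)) l
  by_cases e : m = l
  · rwa [e] at hm
  exfalso
  have hdis : ∀ x ∈ c l, x ∈ c m → x = 1 := by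
    intro x hx hx'
    have h1 : x ∈ c l ⊓ N l := mem_inf.2 ⟨hx, hy.comm m l e hx'⟩
    rwa [hy.triv l, mem_bot] at h1
  have key : ∀ x ∈ c l, x ≠ 1 → a * x * a⁻¹ * x⁻¹ ∈ Z i ∧ a * x * a⁻¹ * x⁻¹ ≠ 1 := by
    intro x hx hx1
    refine ⟨h.A_comm ha (hc hx), fun h1 => hx1 (hdis x hx ?_)⟩
    rw [← mul_inv_eq_one.1 h1, ← hm.2]
    exact ⟨x, hx, rfl⟩
  -- two different nontrivial elements of `c l`
  obtain ⟨x, hx, y, hy', hx1, hy1, hxy⟩ : ∃ x ∈ c l, ∃ y ∈ c l, x ≠ 1 ∧ y ≠ 1 ∧ x ≠ y := by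
    by_contra hcon
    push Not at hcon
    have hne : c l ≠ ⊥ := hy.ne l
    obtain ⟨⟨x, hx⟩, hx1⟩ := (Subgroup.ne_bot_iff_exists_ne_one).1 hne
    have hx1' : x ≠ 1 := fun e => hx1 (Subtype.ext e)
    have hle : (c l : Set G) ⊆ {1, x} := by
      intro y hyc
      by_cases h1 : y = 1
      · exact Or.inl h1
      · exact Or.inr (hcon x hx y hyc hx1' h1).symm
    have h3 : ((c l : Set G)).ncard ≤ ({1, x} : Set G).ncard := Set.ncard_le_ncard hle (Set.toFinite _)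
    have h4 : ({1, x} : Set G).ncard ≤ 2 := Set.ncard_insert_le _ _ |>.trans (by rw [Set.ncard_singleton])
    have h5 : ((c l : Set G)).ncard = Nat.card (c l) := rfl
    omega
  have hxy1 : x * y ≠ 1 := by
    intro h1
    apply hxy
    have h3 : y⁻¹ = y := hy.inv_eq (hy.cX l hy')
    rw [← h3]
    exact eq_inv_of_mul_eq_one_left h1
  obtain ⟨k1, k1'⟩ := key x hx hx1
  obtain ⟨k2, k2'⟩ := key y hy' hy1
  obtain ⟨k3, k3'⟩ := key (x * y) (mul_mem hx hy') hxy1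
  have e1 : a * x * a⁻¹ * x⁻¹ = a * y * a⁻¹ * y⁻¹ := UniPlus.eq_of_card_two (h.cardZ i) k1 k2 k1' k2'
  have e2 : a * (x * y) * a⁻¹ * (x * y)⁻¹ = (a * x * a⁻¹ * x⁻¹) * (a * y * a⁻¹ * y⁻¹) := by
    have hxV := hc hx
    have hyV := hc hy'
    have hkV : a * y * a⁻¹ * y⁻¹ ∈ V := h.ZV i k2
    have h3 : x * (a * y * a⁻¹ * y⁻¹) = (a * y * a⁻¹ * y⁻¹) * x := h.Vc hxV hkV
    calc a * (x * y) * a⁻¹ * (x * y)⁻¹ = (a * x * a⁻¹ * x⁻¹) * (x * (a * y * a⁻¹ * y⁻¹) * (y * (x * y)⁻¹)) := by group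
      _ = (a * x * a⁻¹ * x⁻¹) * ((a * y * a⁻¹ * y⁻¹) * x * (y * (x * y)⁻¹)) := by rw [h3]
      _ = _ := by group
  apply k3'
  rw [e2, e1]
  have h6 : (a * y * a⁻¹ * y⁻¹) ^ 2 = 1 := Cfsg.Agent.Omega.SQ1.Bau.elem_sq h.el _ (h.ZV i k2)
  rw [← pow_two]
  exact h6

/-- **`B = Q ∏ A i`** -/
theorem B_gen [Finite ι] (h : FrL B Q V X' ZJ L W Z C A 2) {H : Subgroup G} (hQ : Q ≤ H) (hA : ∀ i, A i ≤ H) :
    B ≤ H := by
  intro b hb
  have key : ∀ s : Set ι, s.Finite → ∃ a ∈ H ⊓ B, ∀ i ∈ s, ∀ w ∈ W i, (a * b) * w = w * (a * b) := by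
    intro s hs
    induction s, hs using Set.Finite.induction_on with
    | empty => exact ⟨1, one_mem _, fun i hi => absurd hi (Set.notMem_empty i)⟩
    | @insert i s hi _ ih =>
      obtain ⟨a, ha, hs'⟩ := ih
      by_cases hw : ∀ w ∈ W i, (a * b) * w = w * (a * b)
      · refine ⟨a, ha, fun m hm => ?_⟩
        rcases hm with rfl | hm
        · exact hw
        · exact hs' m hm
      obtain ⟨b', hb'⟩ : ∃ b', b' = a * b := ⟨_, rfl⟩
      have hb'B : b' ∈ B := by rw [hb']; exact mul_mem (mem_inf.1 ha).2 hb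
      have hane := h.Ane i
      push Not at hane
      obtain ⟨a', ha', v, hv, hav⟩ := hane
      have ha'B := h.AB i ha'
      rw [← hb'] at hw
      refine ⟨a' * a, mul_mem (mem_inf.2 ⟨hA i ha', ha'B⟩) ha, fun m hm w hwm => ?_⟩
      rw [mul_assoc a' a b, ← hb']
      rcases hm with rfl | hm
      · -- on `W i`
        have hbl := h.blk m
        have hbw := hbl.com b' hb'B w hwm
        have haw := hbl.com a' ha'B w hwm
        by_cases hwZ : w ∈ Z m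
        · have c1 : Commute a' w := hbl.cZ a' ha'B w hwZ
          have c2 : Commute b' w := hbl.cZ b' hb'B w hwZ
          exact (c1.mul_left c2).eq
        have n1 : b' * w * b'⁻¹ * w⁻¹ ≠ 1 := fun e =>
          hw (hbl.free b' hb'B w hwm hwZ (mul_inv_eq_iff_eq_mul.1 (mul_inv_eq_one.1 e)))
        have n2 : a' * w * a'⁻¹ * w⁻¹ ≠ 1 := fun e =>
          hav (hbl.free a' ha'B w hwm hwZ (mul_inv_eq_iff_eq_mul.1 (mul_inv_eq_one.1 e)) v hv)
        have e1 : b' * w * b'⁻¹ * w⁻¹ = a' * w * a'⁻¹ * w⁻¹ := UniPlus.eq_of_card_two (h.cardZ m) hbw haw n1 n2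
        have c1 : a' * (b' * w * b'⁻¹ * w⁻¹) = (b' * w * b'⁻¹ * w⁻¹) * a' := hbl.cZ a' ha'B _ hbw
        have sq : (b' * w * b'⁻¹ * w⁻¹) * (b' * w * b'⁻¹ * w⁻¹) = 1 := by
          rw [← pow_two]
          exact Cfsg.Agent.Omega.SQ1.Bau.elem_sq h.el _ (h.ZV m hbw)
        have e2 : a' * b' * w * (a' * b')⁻¹ = w := by
          calc a' * b' * w * (a' * b')⁻¹ = (a' * (b' * w * b'⁻¹ * w⁻¹)) * (w * a'⁻¹) := by group
            _ = ((b' * w * b'⁻¹ * w⁻¹) * a') * (w * a'⁻¹) := by rw [c1]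
            _ = (b' * w * b'⁻¹ * w⁻¹) * (a' * w * a'⁻¹ * w⁻¹) * w := by group
            _ = w := by rw [← e1, sq, one_mul]
        exact mul_inv_eq_iff_eq_mul.1 e2
      · -- on `W m`
        have him : i ≠ m := fun e => hi (e ▸ hm)
        have c1 : Commute a' w := h.AC i a' ha' w (h.WjC i m him hwm)
        have c2 : Commute b' w := by
          rw [hb']
          exact hs' m hm w hwm
        exact (c1.mul_left c2).eq
  obtain ⟨a, ha, hs⟩ := key Set.univ (Set.toFinite _)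
  have hab : a * b ∈ Q := by
    refine (h.mem_Q _ (mul_mem (mem_inf.1 ha).2 hb)).2 fun v hv => ?_
    rw [h.V_eq] at hv
    have hle : (⨆ i, W i) ≤ centralizer ({a * b} : Set G) := iSup_le fun i w hw => by
      rw [mem_centralizer_singleton_iff]
      exact (hs i (Set.mem_univ i) w hw).symm
    exact (mem_centralizer_singleton_iff.1 (hle hv)).symm
  have e : b = a⁻¹ * (a * b) := by group
  rw [e]
  exact mul_mem (inv_mem (mem_inf.1 ha).1) (hQ hab)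

/-- **over `T = B` there is one line** -/
theorem one_line [Finite ι] (h : FrL B Q V X' ZJ L W Z C A 2) (hy : YB B X N c)
    (htr : ∀ l m, ∃ t ∈ B, Mv N c t l m) (h2 : ∀ l, 2 < Nat.card (c l)) (hc : ∀ l, c l ≤ V) : Subsingleton Λ := by
  refine ⟨fun l m => ?_⟩
  have hn : B ≤ normalizer (c l : Set G) := by
    refine B_gen h (fun q hq => ?_) fun i a ha => ?_
    · refine centralizer_le_normalizer _ (mem_centralizer_iff.2 fun x hx => ?_)
      exact (h.cQ hq (hc l hx)).symm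
    · exact mem_normalizer_iff_cj.2 (fix_all h le_rfl hy (hc l) (h2 l) ha).2
  obtain ⟨t, ht, htm⟩ := htr l m
  exact hy.line_inj ((cj_eq_of_mem_normalizer (hn ht)).symm.trans htm.2)

end Cfsg.Agent.Omega.OM.LowT.LinEnd

namespace Cfsg.Agent.Omega.OM.LowT

open Subgroup Cfsg Cfsg.Agent.ZN.ChoiceBase Cfsg.Agent.ZN.ChoiceSit
open Cfsg.Agent.ZN (jj zj bau zc zl o2)
open Cfsg.Agent.MinSimple.MinParabolic (IsMinPar)
open Cfsg.Agent.Omega.SQ1.FFOne (MinH)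
open Cfsg.Agent.Omega.NO3S.OneLine (NatC natC_of)
open Cfsg.Agent.Omega.OM.Lev.Nat (Wn mem_Wn)
open Cfsg.Agent.Omega.OM.GLev
open Cfsg.Agent.Omega.FFThm (NatKM SymKM)
open Cfsg.Agent.Omega.FrameFF (cv)
open Cfsg.Agent.Omega.OM.Lev.Low
open Cfsg.Agent.Omega.OM.SWT (Ln ZT BT LV)
open Cfsg.Agent.Omega.NO3S.Level (lev lev_isLev)

universe u

variable {G : Type u} [Group G] [Finite G] {ι : Type} {S : Sylow 2 G} {P : Subgroup G} {n : LV S}
  {L W Z C A : ι → Subgroup G}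

/-- **The first output of the core**: `c l ≤ V_P` for all `l`. -/
def Core (P : Subgroup G) (n : LV S) (L W Z C A : ι → Subgroup G) (R : Subgroup G) (j : ℕ) : Prop :=
  ∀ (F : Type) [Field F] [Finite F] [CharP F 2] (k : ℕ) (hm : MinH R (BT n)) (hk : 0 < k)
    (N : NatKM F (BT n) R (zl (BT n) R) (cv (BT n) R) k) (K Nn c : Fin k → Subgroup G),
    Inp P n L W Z C A (BT n) R j K (fun i => Wn (natC_of hm hk N.toNatK) i) Nn c →
    NB' (natC_of hm hk N.toNatK) (LevB.BL (S : Subgroup G) j) (zc (lev (S : Subgroup G) j)) K c →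
    (∀ l, ¬ zc (BT n) ≤ Nn l) → ∀ l, c l ≤ zl (S : Subgroup G) P

/-- **`LinH` from the core.** -/
theorem linH_of [Finite ι] (h : Ln P n L W Z C A 2) {R : Subgroup G} {j : ℕ} (hT : Syl (BT n) R)
    (hP : IsMinPar (BT n) R) (hc : R ⊓ centralizer (o2 R : Set G) ≤ o2 R)
    (hZ : ¬ R ≤ centralizer (zc (BT n) : Set G)) (hj : lev (S : Subgroup G) j ≤ n.K)
    (hlow : ∀ i < j, lev (S : Subgroup G) i ≤ o2 R) (hnj : ¬ lev (S : Subgroup G) j ≤ o2 R)
    (hF : ∀ y ∈ R, y ∈ normalizer (LevB.BL (S : Subgroup G) j : Set G) →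
      y ∈ normalizer ((zl (S : Subgroup G) P ⊓ zl (BT n) R : Subgroup G) : Set G))
    (hcore : Core P n L W Z C A R j) : LinH S P (BT n) R j := by
  have hBj : LevB.BL (S : Subgroup G) j ≤ BT n := BL_le_BT hj
  obtain ⟨X, AA', hge, hbz, hex, hcon⟩ := exists_ge S hT hBj hP hc hlow hnj hZ
  have hzT : ∀ {Λ : Type} {K E Nn c : Λ → Subgroup G},
      YK (BT n) R (zc (lev (S : Subgroup G) j)) (LevB.BL (S : Subgroup G) j) K E Nn c → ∀ l, ¬ zc (BT n) ≤ Nn l := by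
    intro Λ K E Nn c hyk l hle
    refine hZ ((hyk.sup l).trans (sup_le (NO3S.Level.le_centralizer_zc _) fun x hx => mem_centralizer_iff.2
      fun z hz => ?_))
    have hzX : z ∈ zc (lev (S : Subgroup G) j) :=
      (LevB.isLev_T S hT.2.1 ((LevB.lb S j).KB.trans hBj)).zc_le hz
    exact ((hyk.memN l z hzX).1 (hle hz) x hx).symm
  -- the natural type
  have main : ∀ (F : Type) [Field F] [Finite F] [CharP F 2] (k : ℕ) (hk : 0 < k)
      (N : NatKM F (BT n) R (zl (BT n) R) (cv (BT n) R) k), ∃ K c : Fin k → Subgroup G,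
        NB' (natC_of hge.hm hk N.toNatK) (LevB.BL (S : Subgroup G) j) (zc (lev (S : Subgroup G) j)) K c ∧
        (∀ l, c l ≤ zl (S : Subgroup G) P) ∧ k = 1 ∧ Nat.card F = 4 := by
    intro F _ _ _ k hk N
    obtain ⟨K, Nn, c, hyk, hnb⟩ := yk_nat hge hbz N hk hex
    have hin : Inp P n L W Z C A (BT n) R j K (fun i => Wn (natC_of hge.hm hk N.toNatK) i) Nn c :=
      ⟨h, hT, le_rfl, hj, hc, hlow, hyk⟩
    have hz := hzT hyk
    have hcV := hcore F k hge.hm hk N K Nn c hin hnb hz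
    have hw : ∀ l, YB.Wide (zl (S : Subgroup G) P) Nn c l := hin.wide ⟨⟨0, hk⟩, hz _⟩
    have hKX : zc n.K ≤ zc (lev (S : Subgroup G) j) := (lev_isLev (S : Subgroup G) j).zc_le_zc hj n.lev.le
    have h1 := lin_top h hT.2.1 le_rfl hyk.yb hKX hyk.tr (sub_of_co hge.hm N hk hnb.co hyk.yb)
      ⟨⟨0, hk⟩, hz _⟩ hw (fun l => (hcV l).trans h.fr.VX) ⟨0, hk⟩
    have h2 := h1.2.1
    rw [hnb.co.card] at h2
    have h3 := LinEnd.one_line h.fr hyk.yb hyk.tr (fun l => (hw l).two_lt) hcV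
    have hk1 : k = 1 := by
      by_contra hne
      have h4 : (⟨0, hk⟩ : Fin k) = ⟨1, by omega⟩ := Subsingleton.elim _ _
      exact absurd (congrArg Fin.val h4) (by norm_num)
    exact ⟨K, c, hnb, hcV, hk1, h2⟩
  refine ⟨fun F _ _ _ k hk N _ => ?_, fun K' N₁ c' τ hpb hKR hc' hτK hτB hτc hτ1 => ?_⟩
  · obtain ⟨-, -, -, -, h1, h2⟩ := main F k hk N
    exact ⟨h1, h2⟩
  rcases hcon with ⟨F, hF1, hF2, hF3, k, hk, ⟨N⟩⟩ | ⟨k, m, hk, hm, ⟨N⟩⟩
  · obtain ⟨K, c, hnb, hcV, hk1, -⟩ := main F k hk N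
    subst hk1
    -- `N₁ = c 0 * cv`
    have hN₁ : ∀ x ∈ N₁, ∃ a ∈ c 0, ∃ d ∈ cv (BT n) R, x = a * d := by
      intro x hx
      have hxV := hpb.N1N hx
      have h1 := (BlOf.line_iff hpb hxV).1 hx
      rw [LevB.zc_B] at h1
      have h2 : x ∈ Li (natC_of hge.hm hk N.toNatK) 0 :=
        ⟨hxV, fun i' hi => absurd (Subsingleton.elim i' 0) hi, ((hnb.ld 0).mem x hxV).1 h1 0⟩
      exact hnb.co.cov 0 x h2
    have hcF : c 0 ≤ zl (S : Subgroup G) P ⊓ zl (BT n) R := le_inf (hcV 0) fun x hx => (hnb.co.le 0 hx).1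
    have hτF : τ ∈ normalizer ((zl (S : Subgroup G) P ⊓ zl (BT n) R : Subgroup G) : Set G) := hF τ (hKR hτK) hτB
    -- `[N₁, τ] ≤ V_P`
    have key : ∀ x ∈ N₁, τ * x * τ⁻¹ * x⁻¹ ∈ zl (S : Subgroup G) P := by
      intro x hx
      obtain ⟨a, ha, d, hd, rfl⟩ := hN₁ x hx
      have haF := hcF ha
      have h1 : τ * d = d * τ := hpb.N0c τ hτK d hd
      have h2 : τ * a * τ⁻¹ ∈ zl (S : Subgroup G) P ⊓ zl (BT n) R := (mem_normalizer_iff.1 hτF a).1 haF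
      have e : τ * (a * d) * τ⁻¹ * (a * d)⁻¹ = τ * a * τ⁻¹ * a⁻¹ := by
        calc τ * (a * d) * τ⁻¹ * (a * d)⁻¹ = τ * a * τ⁻¹ * (τ * d) * τ⁻¹ * d⁻¹ * a⁻¹ := by group
          _ = τ * a * τ⁻¹ * (d * τ) * τ⁻¹ * d⁻¹ * a⁻¹ := by rw [h1]
          _ = _ := by group
      rw [e]
      exact (mul_mem h2 (inv_mem haF)).1
    -- `c' = [c', τ]`
    have hab : ∀ x ∈ c', ∀ y ∈ c', x * y = y * x := fun x hx y hy =>
      Cfsg.Agent.Omega.SQ1.Bau.elem_comm hpb.el x (hpb.N1N (hc' hx)) y (hpb.N1N (hc' hy))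
    have hτx : ∀ x ∈ c', τ * x * τ⁻¹ ∈ c' := fun x hx => by
      rw [← hτc]
      exact ⟨x, hx, rfl⟩
    let f : ↥c' → ↥c' := fun x => ⟨τ * x * τ⁻¹ * (x : G)⁻¹, mul_mem (hτx x x.2) (inv_mem x.2)⟩
    have hf : Function.Injective f := by
      rintro ⟨x, hx⟩ ⟨y, hy⟩ hxy
      have h1 : τ * x * τ⁻¹ * x⁻¹ = τ * y * τ⁻¹ * y⁻¹ := congrArg Subtype.val hxy
      have h2 : τ * (y⁻¹ * x) * τ⁻¹ = y⁻¹ * x := by
        have h3 : τ * x * τ⁻¹ = τ * y * τ⁻¹ * (y⁻¹ * x) := by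
          calc τ * x * τ⁻¹ = (τ * x * τ⁻¹ * x⁻¹) * x := by group
            _ = (τ * y * τ⁻¹ * y⁻¹) * x := by rw [h1]
            _ = _ := by group
        calc τ * (y⁻¹ * x) * τ⁻¹ = (τ * y * τ⁻¹)⁻¹ * (τ * x * τ⁻¹) := by group
          _ = (τ * y * τ⁻¹)⁻¹ * (τ * y * τ⁻¹ * (y⁻¹ * x)) := by rw [← h3]
          _ = _ := by group
      have h3 := hτ1 _ (mul_mem (inv_mem hy) hx) h2
      exact Subtype.ext (inv_mul_eq_one.1 h3).symm
    have hsurj := Finite.surjective_of_injective hf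
    intro x hx
    obtain ⟨⟨y, hy⟩, e⟩ := hsurj ⟨x, hx⟩
    have e' : τ * y * τ⁻¹ * y⁻¹ = x := congrArg Subtype.val e
    rw [← e']
    exact key y (hc' hy)
  · exfalso
    obtain ⟨ι', hf, ⟨i⟩, W', K, d, hyk, -, hd2⟩ := yk_sym hge hbz N hk (by omega) hex
    have hin : Inp P n L W Z C A (BT n) R j K W' (fun i => centralizer (K i : Set G)) (fun i => zpowers (d i)) :=
      ⟨h, hT, le_rfl, hj, hc, hlow, hyk⟩
    obtain ⟨v, -, a, ha, -, ha1, v', -, a', ha', -, ha1', hne⟩ := hin.wide ⟨i, hzT hyk i⟩ i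
    have h1 : ∀ x ∈ zpowers (d i), x ≠ 1 → x = d i := by
      intro x hx hx1
      obtain ⟨r, rfl⟩ := mem_zpowers_iff.1 hx
      rcases Int.even_or_odd r with ⟨s, rfl⟩ | ⟨s, rfl⟩
      · exfalso
        apply hx1
        rw [← two_mul, zpow_mul, zpow_ofNat, pow_two, hd2, one_zpow]
      · rw [zpow_add, zpow_mul, zpow_ofNat, pow_two, hd2, one_zpow, one_mul, zpow_one]
    exact hne ((h1 a ha ha1).trans (h1 a' ha' ha1').symm)

end Cfsg.Agent.Omega.OM.LowT
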