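import Cfsg.Agent.Omega.OM.Lev.Low.OneOf
import Cfsg.Agent.Omega.OM.LowT.Full

/-!
# TORUS, `T = B`: (L) for a fixed line, over the frame `SWT.Ln P n`

Port of `OM/Lev/Low/OneOf.lean`: `mem_Q_of`, `exists_fixW`, `B_le`, `fix_all` are frame-free
(`Lev.Low.Line.*` over `FrL`); only `line_yb` mentions the level.

* `line_yb` : (L) for a line of `YB` on `Ω₁Z(lev S j)`, `lev S j ≤ n.K`.
-/

set_option autoImplicit false
set_option linter.unusedSectionVars false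

namespace Cfsg.Agent.Omega.OM.LowT.Line

open Subgroup Cfsg Cfsg.Agent.ZN.ChoiceBase Cfsg.Agent.ZN.ChoiceSit
open Cfsg.Agent.ZN (jj zj bau zc zl o2)
open Cfsg.Agent.Omega.OM.Lev.Uni (FrL)
open Cfsg.Agent.Omega.OM.SWT (Ln LV)
open Cfsg.Agent.Omega.OM.Lev.Low
open Cfsg.Agent.Omega.NO3S.EThree.Frame (Bg)
open Cfsg.Agent.Omega.NO3S.Level (lev)

universe u

section L

variable {G : Type u} [Group G] [Finite G] {ι : Type} [Finite ι] {S : Sylow 2 G} {P : Subgroup G} {n : LV S}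
  {L W Z C A : ι → Subgroup G}

/-- **(L)** for a line of `YB` on `Ω₁Z(lev S j)`, `lev S j ≤ n.K`. -/
theorem line_yb (hL : Ln P n L W Z C A 2)
    (hB : Bg S P (SWT.BT n) (SWT.ZT n) L W Z C 2) {j : ℕ} (hj : lev (S : Subgroup G) j ≤ n.K) {Λ : Type*}
    {N c : Λ → Subgroup G} (hy : YB (SWT.BT n) (zc (lev (S : Subgroup G) j)) N c) {l : Λ}
    (hfix : ∀ b ∈ SWT.BT n, Mv N c b l l) (hcV : c l ≤ zl (S : Subgroup G) P)
    (hc4 : Nat.card (c l) = 4) (hZJ : ¬ SWT.ZT n ≤ N l) {τ : G}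
    (hτc : ∀ x ∈ c l, τ * x * τ⁻¹ ∈ c l) (hτ1 : ∀ x ∈ c l, τ * x * τ⁻¹ = x → x = 1)
    (hτN : ∀ x ∈ N l, τ * x * τ⁻¹ = x) :
    ∃ i, c l = W i ∧ (∀ m, m ≠ i → W m ≤ N l) ∧ ∀ m, m ≠ i → Z m ≤ N l := by
  refine line' hL hB hcV hc4 (fun x hx => hy.fix l x ?_) (hy.triv l) (fun b hb x hx => ?_) (fun b hb x hx => ?_) hZJ
    hτc hτ1 hτN
  · exact (NO3S.Level.lev_isLev (S : Subgroup G) j).zc_le_zc hj n.lev.le hx
  · have h1 := (hfix b hb).2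
    have h2 : b * x * b⁻¹ ∈ cj b (c l) := ⟨x, hx, rfl⟩
    rwa [h1] at h2
  · have h1 := (hfix b hb).1
    have h2 : b * x * b⁻¹ ∈ cj b (N l) := ⟨x, hx, rfl⟩
    rwa [h1] at h2

end L

end Cfsg.Agent.Omega.OM.LowT.Line
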