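import Cfsg.Agent.Omega.OM.Lev.Low.PlugTwo
import Cfsg.Agent.Omega.OM.SWT.Base

/-!
# (LL), `q = 2`, natural type, over a general top level: the position of `T`

Port of `OM/Lev/Low/PlugTwo.lean` to a general level `n : LV S`. `(T, Y)`, `T ≥ B = C_S(Z_J)` a Sylow 2-subgroup of the
minimal parabolic `Y` of characteristic 2 which moves `Ω₁Z(T)`.

* `exists_cj_le` : `T` is conjugate under `N_G(B)` to a subgroup of `S`;
* `le_of_syl` : if `T` is a Sylow 2-subgroup of `G` then `K₀ ≤ O₂(Y)` (from the hypothesis on `P*(S)`); `le_of_syl'` : the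
  same for any subgroup `D` normalised by `N_G(B)`; `lev_le_of_syl` : for `D = lev S m ≤ K₀`;
* `norm_lev` : `N_G(B) ≤ N_G(lev S m)` for `lev S m ≤ K₀`;
* `eq_or` : `k = 2`: `T = B` or `|T| = |S|`.

`le_cent_of_norm`, `eq_B` of `OM/Lev/Low/PlugTwo.lean` do not mention the level.
-/

set_option autoImplicit false
set_option linter.unusedSectionVars false

namespace Cfsg.Agent.Omega.OM.LowT

open Subgroup Cfsg Cfsg.Agent.ZN.ChoiceBase Cfsg.Agent.ZN.ChoiceSit
open Cfsg.Agent.ZN (jj zj bau zc zl o2)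
open Cfsg.Agent.MinSimple.MinParabolic (IsMinPar)
open Cfsg.Agent.Omega.MinPar (IsParS)
open Cfsg.Agent.Omega.OM.SWT (Ln ZT BT LV)
open Cfsg.Agent.Omega.OM.Lev.Low (le_cent_of_norm eq_B)
open Cfsg.Agent.Omega.NO3S.Level (lev lev_isLev lev_le)

universe u

variable {G : Type u} [Group G] [Finite G]

/-- `T` is conjugate under `N_G(B)` to a subgroup of `S`. -/
theorem exists_cj_le {S : Sylow 2 G} (n : LV S) {T : Subgroup G} (hT : IsPGroup 2 T) (hB : BT n ≤ T) :
    ∃ g ∈ normalizer (BT n : Set G), cj g T ≤ S := by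
  obtain ⟨R, hR⟩ := hT.exists_le_sylow
  obtain ⟨x, hx⟩ := MulAction.exists_smul_eq G S R
  have hRx : (R : Subgroup G) = cj x (S : Subgroup G) := by rw [← hx, Sylow.coe_subgroup_smul]; rfl
  rw [hRx] at hR
  have h1 : cj x⁻¹ T ≤ S := by
    have := cj_mono x⁻¹ hR
    rwa [cj_inv_cj] at this
  refine ⟨x⁻¹, mem_normalizer_iff_cj.2 ?_, h1⟩
  exact SWT.wc n (S : Subgroup G) S.isPGroup' (SWT.lb n).BS x⁻¹ ((cj_mono _ hB).trans h1)

/-- **`T` Sylow in `G`**, for a subgroup `D` normalised by `N_G(B)`. -/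
theorem le_of_syl' {S : Sylow 2 G} (n : LV S) {D : Subgroup G}
    (hD : normalizer (BT n : Set G) ≤ normalizer (D : Set G))
    (hall : ∀ R, IsParS (S : Subgroup G) R → D ≤ o2 R) {T Y : Subgroup G} (hT : Syl T Y)
    (hB : BT n ≤ T) (hcard : Nat.card S ≤ Nat.card T) (hP : IsMinPar T Y)
    (hc : Y ⊓ centralizer (o2 Y : Set G) ≤ o2 Y) (hZ : ¬ Y ≤ centralizer (zc T : Set G)) :
    D ≤ o2 Y := by
  obtain ⟨g, hg, hgT⟩ := exists_cj_le n hT.2.1 hB
  have hS : cj g T = (S : Subgroup G) := Subgroup.eq_of_le_of_card_ge hgT (by rw [card_cj]; exact hcard)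
  have hlev : cj g D = D := mem_normalizer_iff_cj.1 (hD hg)
  have h1 : IsParS (S : Subgroup G) (cj g Y) := by
    have h2 : IsMinPar (S : Subgroup G) (cj g Y) := by
      rw [← hS]
      exact NOThree.NoOver.isMinPar_cj g hP
    have h3 : o2 (cj g Y) ≠ ⊥ := by
      intro e
      rw [← MinSimple.Geo.cj_o2] at e
      have e1 : o2 Y = ⊥ := by
        have := congrArg (cj g⁻¹) e
        rw [cj_inv_cj] at this
        rw [this]
        exact map_bot _
      rw [e1] at hc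
      apply hZ
      have h4 : Y = ⊥ := le_bot_iff.1 (le_trans (le_inf le_rfl (fun y _ => by
        rw [mem_centralizer_iff]
        rintro x hx
        have hx' : x = 1 := hx
        rw [hx']
        simp)) hc)
      rw [h4]
      exact bot_le
    refine ⟨⟨h2, h3⟩, fun h5 => hZ (le_cent_of_norm hT hP ?_)⟩
    intro y hy
    have h6 := h5 ⟨y, hy, rfl⟩
    rw [mem_normalizer_iff_cj, ← hS, NO3S.Level.zc_cj] at h6
    rw [mem_normalizer_iff_cj]
    have e2 : (MulAut.conj g).toMonoidHom y = g * y * g⁻¹ := rfl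
    rw [e2, cj_cj] at h6
    have h7 := congrArg (cj g⁻¹) h6
    rw [cj_cj, cj_inv_cj] at h7
    rwa [show g⁻¹ * (g * y * g⁻¹ * g) = y by group] at h7
  have h3 := hall _ h1
  rw [← hlev, ← MinSimple.Geo.cj_o2] at h3
  have h4 := cj_mono g⁻¹ h3
  rwa [cj_inv_cj, cj_inv_cj] at h4

/-- **`T` Sylow in `G`.** -/
theorem le_of_syl {S : Sylow 2 G} (n : LV S)
    (hall : ∀ R, IsParS (S : Subgroup G) R → n.K ≤ o2 R) {T Y : Subgroup G} (hT : Syl T Y)
    (hB : BT n ≤ T) (hcard : Nat.card S ≤ Nat.card T) (hP : IsMinPar T Y)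
    (hc : Y ⊓ centralizer (o2 Y : Set G) ≤ o2 Y) (hZ : ¬ Y ≤ centralizer (zc T : Set G)) :
    n.K ≤ o2 Y := le_of_syl' n (SWT.norm_K n) hall hT hB hcard hP hc hZ

/-- `N_G(B) ≤ N_G(lev S m)` for `lev S m ≤ K₀` -/
theorem norm_lev {S : Sylow 2 G} (n : LV S) {m : ℕ} (hm : lev (S : Subgroup G) m ≤ n.K) :
    normalizer (BT n : Set G) ≤ normalizer (lev (S : Subgroup G) m : Set G) :=
  (SWT.norm_K n).trans ((lev_isLev (S : Subgroup G) m).norm _ hm n.lev.le)

/-- **`T` Sylow in `G`**, for `lev S m ≤ K₀`. -/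
theorem lev_le_of_syl {S : Sylow 2 G} (n : LV S) {m : ℕ} (hm : lev (S : Subgroup G) m ≤ n.K)
    (hall : ∀ R, IsParS (S : Subgroup G) R → lev (S : Subgroup G) m ≤ o2 R) {T Y : Subgroup G} (hT : Syl T Y)
    (hB : BT n ≤ T) (hcard : Nat.card S ≤ Nat.card T) (hP : IsMinPar T Y)
    (hc : Y ⊓ centralizer (o2 Y : Set G) ≤ o2 Y) (hZ : ¬ Y ≤ centralizer (zc T : Set G)) :
    lev (S : Subgroup G) m ≤ o2 Y := le_of_syl' n (norm_lev n hm) hall hT hB hcard hP hc hZ

/-- `k = 2`, `q = 2`: `T = B` or `T` is a Sylow 2-subgroup of `G`. -/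
theorem eq_or {S : Sylow 2 G} {P : Subgroup G} (n : LV S) {L W Z C : Fin 2 → Subgroup G}
    (h : NO3S.EThree.Frame.Bg S P (BT n) (ZT n) L W Z C 2) {T : Subgroup G}
    (hT : IsPGroup 2 T) (hB : BT n ≤ T) :
    T = BT n ∨ Nat.card S ≤ Nat.card T := by
  obtain ⟨g, hg, hgT⟩ := exists_cj_le n hT hB
  have hBg : cj g (BT n) = BT n := mem_normalizer_iff_cj.1 hg
  have h1 : BT n ≤ cj g T := by
    rw [← hBg]
    exact cj_mono g hB
  rcases eq_B h h1 hgT with h2 | h2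
  · left
    have h3 := congrArg (cj g⁻¹) (h2.trans hBg.symm)
    rwa [cj_inv_cj, cj_inv_cj] at h3
  · right
    have h3 : Nat.card (cj g T) = Nat.card S := by rw [h2]
    rw [card_cj] at h3
    exact h3.ge

end Cfsg.Agent.Omega.OM.LowT
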