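import Cfsg.Agent.Omega.OM.Lev.Low.PushRes
import Cfsg.Agent.Omega.OM.LowT.TwoMain
import Cfsg.Agent.Omega.NO3S.WY.FinOf

/-!
# TORUS, `k = 2 = q`, over a general top level: the end

Port of `TC/NoLow.lean` to the frame `SWT.Ln P n`, `n : LV S`, with the hypothesis `LinH`.

* `Tor.false` : the torus block does not exist;
* `no_low` : no minimal parabolic of a finite stage over `B` moves `Ω₁(Z(B))`;
* **`lowEnd_two : LowEnd 2`**.
-/

set_option autoImplicit false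
set_option linter.unusedSectionVars false

namespace Cfsg.Agent.Omega.OM.LowT.TwoMain

open Subgroup Cfsg Cfsg.Agent.ZN Cfsg.Agent.ZN.ChoiceBase
open Cfsg.Agent.ZN.ChoiceSit (Syl)
open Cfsg.Agent.MinSimple.MinParabolic (IsMinPar)
open Cfsg.Agent.Omega.MinPar (IsLoc IsPar IsParS)
open Cfsg.Agent.Omega.NO3S.EThree.Frame (Bg)
open Cfsg.Agent.Omega.NO3S.Level (lev)
open Cfsg.Agent.Omega.OM.SWT (Ln LV)

universe u

section

variable {G : Type u} [Group G] [Finite G]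

/-- **The torus block does not exist.** -/
theorem Tor.false {S : Sylow 2 G} {P : Subgroup G} {n : LV S} {L W Z C A : Fin 2 → Subgroup G} {R : Subgroup G} {j : ℕ}
    {K N₁ c : Subgroup G} {τ : G} (h : Tor P n L W Z C A R j K N₁ c τ)
    (hbg : Bg S P (SWT.BT n) (SWT.ZT n) L W Z C 2)
    (hall : ∀ R, IsParS (S : Subgroup G) R → n.K ≤ o2 R)
    (hZ : ¬ R ≤ centralizer (zc (SWT.BT n) : Set G)) (hV : c ≤ zl (S : Subgroup G) P) : False := by
  obtain ⟨z, z1, z2, hR, hD⟩ := h.exists_res hbg hZ hV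
  exact h.not_loc hbg hall hZ hV (hR.isLoc hD)

/-- **`k = 2 = q`: no minimal parabolic of the stage `j` over `B` moves `Ω₁(Z(B))`**. -/
theorem no_low_at {S : Sylow 2 G} {P : Subgroup G} {n : LV S} {L W Z C A : Fin 2 → Subgroup G}
    (hln : Ln P n L W Z C A 2) (hbg : Bg S P (SWT.BT n) (SWT.ZT n) L W Z C 2)
    (hall : ∀ R, IsParS (S : Subgroup G) R → n.K ≤ o2 R)
    {R : Subgroup G} (hP : IsMinPar (SWT.BT n) R) (hR : Syl (SWT.BT n) R)
    (hc : R ⊓ centralizer (o2 R : Set G) ≤ o2 R) {j : ℕ} (hj : lev (S : Subgroup G) j ≤ n.K)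
    (hlow : ∀ i < j, lev (S : Subgroup G) i ≤ o2 R) (hnj : ¬ lev (S : Subgroup G) j ≤ o2 R)
    (hlin : LinH S P (SWT.BT n) R j) : R ≤ centralizer (zc (SWT.BT n) : Set G) := by
  by_contra hZ
  obtain ⟨K, N₁, c, τ, h⟩ := exists_tor_j hln hR hP hc hZ hj hlow hnj hlin
  exact h.false hbg hall hZ (h.le_V hlin)

/-- **`k = 2 = q`: no minimal parabolic of a finite stage over `B` moves `Ω₁(Z(B))`**. -/
theorem no_low {S : Sylow 2 G} {P : Subgroup G} {n : LV S} {L W Z C A : Fin 2 → Subgroup G}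
    (hln : Ln P n L W Z C A 2) (hbg : Bg S P (SWT.BT n) (SWT.ZT n) L W Z C 2)
    (hall : ∀ R, IsParS (S : Subgroup G) R → n.K ≤ o2 R)
    {R : Subgroup G} (hP : IsMinPar (SWT.BT n) R) (hR : Syl (SWT.BT n) R)
    (hc : R ⊓ centralizer (o2 R : Set G) ≤ o2 R)
    (hn : ∃ s, lev (S : Subgroup G) s ≤ n.K ∧ ¬ lev (S : Subgroup G) s ≤ o2 R)
    (hlin : ∀ j, lev (S : Subgroup G) j ≤ n.K → (∀ i < j, lev (S : Subgroup G) i ≤ o2 R) →
      ¬ lev (S : Subgroup G) j ≤ o2 R → LinH S P (SWT.BT n) R j) : R ≤ centralizer (zc (SWT.BT n) : Set G) := by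
  by_contra hZ
  obtain ⟨j, K, N₁, c, τ, h, hV⟩ := exists_tor' hln hR hP hc hn hZ hlin
  exact h.false hbg hall hZ hV

end

/-- **`LowEnd 2`** -/
theorem lowEnd_two : NO3S.WY.FinOf.LowEnd.{u} 2 := by
  intro G _ _ S P n L W Z C A hln hbg hall R hP hR hc j hj hlow hnj hlin
  exact no_low_at hln hbg hall hP hR hc hj hlow hnj hlin

end Cfsg.Agent.Omega.OM.LowT.TwoMain
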